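import Mathlib.Topology.Spectral.Basic
import Mathlib.Topology.Spectral.Hom
import Mathlib.Topology.Spectral.ConstructibleTopology
import Mathlib.Topology.Constructible
import Mathlib.Topology.Connected.TotallyDisconnected

/-!
# The constructible topology of a spectral space: basic facts

All statements use the explicit topology `constructibleTopology X` on the type `X`.
-/

namespace Groth.Agent.Lib.Spectral.Basic

open Set TopologicalSpace Topology

variable {X : Type*} [TopologicalSpace X] {Y : Type*} [TopologicalSpace Y]

/-- A compact open subset is open in the constructible topology. -/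
lemma isOpen_cons {U : Set X} (hU : IsOpen U) (hUc : IsCompact U) :
    IsOpen[constructibleTopology X] U :=
  hUc.isOpen_constructibleTopology_of_isOpen hU

/-- A compact open subset is closed in the constructible topology. -/
lemma isClosed_cons {U : Set X} (hU : IsOpen U) (hUc : IsCompact U) :
    IsClosed[constructibleTopology X] U := by
  refine (@isOpen_compl_iff X U (constructibleTopology X)).mp ?_
  exact IsCompact.isOpen_constructibleTopology_of_isClosed (by rwa [compl_compl]) hU.isClosed_compl

lemma isClopen_cons {U : Set X} (hU : IsOpen U) (hUc : IsCompact U) :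
    @IsClopen X (constructibleTopology X) U :=
  ⟨isClosed_cons hU hUc, isOpen_cons hU hUc⟩

/-- The constructible topology of a prespectral space is finer than the given topology. -/
lemma cons_le [PrespectralSpace X] : constructibleTopology X ≤ (‹TopologicalSpace X› : TopologicalSpace X) := by
  intro U hU
  obtain ⟨S, hS, rfl⟩ := PrespectralSpace.isTopologicalBasis.open_eq_sUnion hU
  exact @isOpen_sUnion X (constructibleTopology X) S fun s hs ↦ isOpen_cons (hS hs).1 (hS hs).2

lemma isOpen_cons_of_isOpen [PrespectralSpace X] {U : Set X} (hU : IsOpen U) :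
    IsOpen[constructibleTopology X] U :=
  cons_le U hU

lemma isClosed_cons_of_isClosed [PrespectralSpace X] {Z : Set X} (hZ : IsClosed Z) :
    IsClosed[constructibleTopology X] Z :=
  (@isOpen_compl_iff X Z (constructibleTopology X)).mp (isOpen_cons_of_isOpen hZ.isOpen_compl)

section Compact

variable [CompactSpace X] [QuasiSober X] [PrespectralSpace X] [QuasiSeparatedSpace X]

/-- The constructible topology is quasi-compact. -/
lemma compactSpace_cons : @CompactSpace X (constructibleTopology X) :=
  @Function.Surjective.compactSpace (WithConstructibleTopology X) X _ (constructibleTopology X)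
    (WithTopology.ofTopology (t := constructibleTopology X))
    (WithTopology.continuous_ofTopology _) compactSpace_withConstructibleTopology
    (WithTopology.ofTopology_surjective _)

lemma isCompact_cons_of_isClosed {E : Set X} (hE : IsClosed[constructibleTopology X] E) :
    @IsCompact X (constructibleTopology X) E :=
  @IsClosed.isCompact X (constructibleTopology X) E compactSpace_cons hE

/-- A subset closed in the constructible topology is quasi-compact. -/
lemma isCompact_of_isClosed_cons {E : Set X} (hE : IsClosed[constructibleTopology X] E) :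
    IsCompact E := by
  have h := @IsCompact.image X X (constructibleTopology X) _ E id (isCompact_cons_of_isClosed hE)
    (continuous_id_of_le cons_le)
  rwa [image_id] at h

/-- Finite intersection property for constructibly closed sets. -/
lemma nonempty_iInter_of_isClosed_cons {ι : Type*} (A : ι → Set X)
    (hA : ∀ i, IsClosed[constructibleTopology X] (A i))
    (h : ∀ u : Finset ι, (⋂ i ∈ u, A i).Nonempty) : (⋂ i, A i).Nonempty := by
  have h1 := @IsCompact.inter_iInter_nonempty X (constructibleTopology X) univ ι
    (@isCompact_univ X (constructibleTopology X) compactSpace_cons)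
    A hA (fun u ↦ by simpa using h u)
  simpa using h1

end Compact

/-- Distinct points of a T0 prespectral space are separated by a compact open, in one direction
or the other. -/
lemma exists_compactOpen_separating [T0Space X] [PrespectralSpace X] {x y : X} (h : x ≠ y) :
    ∃ U : Set X, IsOpen U ∧ IsCompact U ∧ ((x ∈ U ∧ y ∉ U) ∨ (y ∈ U ∧ x ∉ U)) := by
  obtain ⟨V, hV, hxy⟩ := exists_isOpen_xor_mem h
  rcases hxy with ⟨hx, hy⟩ | ⟨hy, hx⟩
  · obtain ⟨U, ⟨hUo, hUc⟩, hxU, hUV⟩ :=
      PrespectralSpace.isTopologicalBasis.exists_subset_of_mem_open hx hV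
    exact ⟨U, hUo, hUc, .inl ⟨hxU, fun h ↦ hy (hUV h)⟩⟩
  · obtain ⟨U, ⟨hUo, hUc⟩, hyU, hUV⟩ :=
      PrespectralSpace.isTopologicalBasis.exists_subset_of_mem_open hy hV
    exact ⟨U, hUo, hUc, .inr ⟨hyU, fun h ↦ hx (hUV h)⟩⟩

lemma exists_isClopen_cons_separating [T0Space X] [PrespectralSpace X] {x y : X} (h : x ≠ y) :
    ∃ C : Set X, @IsClopen X (constructibleTopology X) C ∧ x ∈ C ∧ y ∈ Cᶜ := by
  obtain ⟨U, hUo, hUc, hx | hy⟩ := exists_compactOpen_separating h
  · exact ⟨U, isClopen_cons hUo hUc, hx.1, hx.2⟩
  · exact ⟨Uᶜ, @IsClopen.compl X (constructibleTopology X) U (isClopen_cons hUo hUc), hy.2,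
      by simpa using hy.1⟩

lemma totallySeparatedSpace_cons [T0Space X] [PrespectralSpace X] :
    @TotallySeparatedSpace X (constructibleTopology X) :=
  (@totallySeparatedSpace_iff_exists_isClopen X (constructibleTopology X)).mpr
    fun _ _ h ↦ exists_isClopen_cons_separating h

lemma t2Space_cons [T0Space X] [PrespectralSpace X] : @T2Space X (constructibleTopology X) :=
  @T2Space.mk X (constructibleTopology X) fun _ _ h ↦
    have ⟨C, hC, hx, hy⟩ := exists_isClopen_cons_separating h
    ⟨C, Cᶜ, hC.2, (@isOpen_compl_iff X C (constructibleTopology X)).mpr hC.1, hx, hy,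
      disjoint_compl_right⟩

lemma totallyDisconnectedSpace_cons [T0Space X] [PrespectralSpace X] :
    @TotallyDisconnectedSpace X (constructibleTopology X) :=
  @TotallySeparatedSpace.totallyDisconnectedSpace X (constructibleTopology X)
    totallySeparatedSpace_cons

section Spectral

variable [SpectralSpace X]

/-- A constructible subset is clopen in the constructible topology. -/
lemma isClopen_cons_of_isConstructible {E : Set X} (hE : IsConstructible E) :
    @IsClopen X (constructibleTopology X) E := by
  induction hE using IsConstructible.empty_union_induction with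
  | open_retrocompact U hUo hUr => exact isClopen_cons hUo hUr.isCompact
  | union s hs t ht hs' ht' => exact @IsClopen.union X (constructibleTopology X) s t hs' ht'
  | compl s hs hs' => exact @IsClopen.compl X (constructibleTopology X) s hs'

/-- Compact open subsets and their complements are constructible. -/
lemma isConstructible_of_mem_subbasis {s : Set X} (hs : s ∈ constructibleTopologySubbasis X) :
    IsConstructible s := by
  rcases hs with ⟨h1, h2⟩ | ⟨h1, h2⟩
  · exact h2.isConstructible h1
  · exact (h2.isConstructible h1.isOpen_compl).of_compl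

/-- Constructible subsets form a basis of the constructible topology. -/
lemma exists_isConstructible_subset {V : Set X} (hV : IsOpen[constructibleTopology X] V) {x : X}
    (hx : x ∈ V) : ∃ W : Set X, IsConstructible W ∧ x ∈ W ∧ W ⊆ V := by
  induction hV with
  | basic s hs => exact ⟨s, isConstructible_of_mem_subbasis hs, hx, subset_rfl⟩
  | univ => exact ⟨univ, .univ, hx, subset_rfl⟩
  | inter s t _ _ ihs iht =>
    obtain ⟨W₁, h₁, hx₁, hs₁⟩ := ihs hx.1
    obtain ⟨W₂, h₂, hx₂, hs₂⟩ := iht hx.2
    exact ⟨W₁ ∩ W₂, h₁.inter h₂, ⟨hx₁, hx₂⟩, inter_subset_inter hs₁ hs₂⟩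
  | sUnion S _ ih =>
    obtain ⟨s, hs, hxs⟩ := hx
    obtain ⟨W, h1, h2, h3⟩ := ih s hs hxs
    exact ⟨W, h1, h2, h3.trans (subset_sUnion_of_mem hs)⟩

/-- The constructible subsets are exactly the clopens of the constructible topology. -/
lemma isConstructible_iff_isClopen_cons {E : Set X} :
    IsConstructible E ↔ @IsClopen X (constructibleTopology X) E := by
  refine ⟨isClopen_cons_of_isConstructible, fun hE ↦ ?_⟩
  let ι := {W : Set X // IsConstructible W ∧ W ⊆ E}
  have hcov : E ⊆ ⋃ W : ι, W.1 := fun x hx ↦ by
    obtain ⟨W, h1, h2, h3⟩ := exists_isConstructible_subset hE.2 hx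
    exact mem_iUnion.mpr ⟨⟨W, h1, h3⟩, h2⟩
  obtain ⟨t, ht⟩ := @IsCompact.elim_finite_subcover X (constructibleTopology X) E ι
    (isCompact_cons_of_isClosed hE.1) (fun W ↦ W.1)
    (fun W ↦ (isClopen_cons_of_isConstructible W.2.1).2) hcov
  have h : E = ⋃ W ∈ (t : Set ι), W.1 :=
    subset_antisymm (by simpa using ht) (iUnion₂_subset fun W _ ↦ W.2.2)
  rw [h]
  exact .biUnion t.finite_toSet fun W _ ↦ W.2.1

lemma isCompact_of_isConstructible {E : Set X} (hE : IsConstructible E) : IsCompact E :=
  isCompact_of_isClosed_cons (isClopen_cons_of_isConstructible hE).1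

/-- Every point of the closure of a constructibly closed set is a specialization of one of its
points. -/
lemma exists_specializes_of_mem_closure {E : Set X} (hE : IsClosed[constructibleTopology X] E)
    {x : X} (hx : x ∈ closure E) : ∃ e ∈ E, e ⤳ x := by
  let ι := {U : Set X // IsOpen U ∧ IsCompact U ∧ x ∈ U}
  have key : (⋂ o : Option ι, o.elim E (fun U ↦ U.1)).Nonempty := by
    refine nonempty_iInter_of_isClosed_cons _ ?_ ?_
    · rintro (_ | U)
      · exact hE
      · exact isClosed_cons U.2.1 U.2.2.1
    · intro u
      classical
      have : ∀ v : Finset ι, ∃ W : Set X, IsOpen W ∧ x ∈ W ∧ W ⊆ ⋂ U ∈ v, U.1 := fun v ↦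
        ⟨⋂ U ∈ v, U.1, isOpen_biInter_finset fun U _ ↦ U.2.1,
          mem_iInter₂.mpr fun U _ ↦ U.2.2.2, subset_rfl⟩
      obtain ⟨W, hWo, hxW, hW⟩ := this u.eraseNone
      obtain ⟨y, hyW, hyE⟩ := mem_closure_iff.mp hx W hWo hxW
      refine ⟨y, mem_iInter₂.mpr fun o ho ↦ ?_⟩
      rcases o with _ | U
      · exact hyE
      · exact mem_iInter₂.mp (hW hyW) U (Finset.mem_eraseNone.mpr ho)
  obtain ⟨e, he⟩ := key
  rw [mem_iInter] at he
  refine ⟨e, he none, specializes_iff_forall_open.mpr fun V hV hxV ↦ ?_⟩
  obtain ⟨U, ⟨hUo, hUc⟩, hxU, hUV⟩ :=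
    PrespectralSpace.isTopologicalBasis.exists_subset_of_mem_open hxV hV
  exact hUV (he (some ⟨U, hUo, hUc, hxU⟩))

lemma isClosed_of_isClosed_cons {E : Set X} (hE : IsClosed[constructibleTopology X] E)
    (hs : StableUnderSpecialization E) : IsClosed E := by
  rw [← closure_subset_iff_isClosed]
  intro x hx
  obtain ⟨e, he, hex⟩ := exists_specializes_of_mem_closure hE hx
  exact hs hex he

lemma isOpen_of_isOpen_cons {E : Set X} (hE : IsOpen[constructibleTopology X] E)
    (hs : StableUnderGeneralization E) : IsOpen E := by
  rw [← isClosed_compl_iff]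
  refine isClosed_of_isClosed_cons ?_ hs.compl
  exact (@isClosed_compl_iff X (constructibleTopology X) E).mpr hE

lemma isClosed_of_isConstructible {E : Set X} (hE : IsConstructible E)
    (hs : StableUnderSpecialization E) : IsClosed E :=
  isClosed_of_isClosed_cons (isClopen_cons_of_isConstructible hE).1 hs

lemma isOpen_of_isConstructible {E : Set X} (hE : IsConstructible E)
    (hs : StableUnderGeneralization E) : IsOpen E :=
  isOpen_of_isOpen_cons (isClopen_cons_of_isConstructible hE).2 hs

end Spectral

/-! ### Spectral maps -/

/-- A spectral map is continuous for the constructible topologies. -/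
lemma continuous_cons {f : X → Y} (hf : IsSpectralMap f) :
    Continuous[constructibleTopology X, constructibleTopology Y] f := by
  refine continuous_generateFrom_iff.mpr fun s hs ↦ ?_
  rcases hs with ⟨h1, h2⟩ | ⟨h1, h2⟩
  · exact isOpen_cons (h1.preimage hf.continuous) (h2.preimage_of_isOpen hf h1)
  · refine IsCompact.isOpen_constructibleTopology_of_isClosed ?_ (h1.preimage hf.continuous)
    rw [← preimage_compl]
    exact h2.preimage_of_isOpen hf h1.isOpen_compl

lemma isClosed_cons_preimage {f : X → Y} (hf : IsSpectralMap f) {s : Set Y}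
    (hs : IsClosed[constructibleTopology Y] s) : IsClosed[constructibleTopology X] (f ⁻¹' s) :=
  @IsClosed.preimage X Y (constructibleTopology X) (constructibleTopology Y) f (continuous_cons hf)
    s hs

lemma isOpen_cons_preimage {f : X → Y} (hf : IsSpectralMap f) {s : Set Y}
    (hs : IsOpen[constructibleTopology Y] s) : IsOpen[constructibleTopology X] (f ⁻¹' s) :=
  @IsOpen.preimage X Y (constructibleTopology X) (constructibleTopology Y) f (continuous_cons hf)
    s hs

/-- The image of a constructibly closed set under a spectral map is constructibly closed. -/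
lemma isClosed_cons_image [CompactSpace X] [QuasiSober X] [PrespectralSpace X]
    [QuasiSeparatedSpace X] [T0Space Y] [PrespectralSpace Y] {f : X → Y} (hf : IsSpectralMap f)
    {E : Set X} (hE : IsClosed[constructibleTopology X] E) :
    IsClosed[constructibleTopology Y] (f '' E) :=
  @IsCompact.isClosed Y (constructibleTopology Y) t2Space_cons _
    (@IsCompact.image X Y (constructibleTopology X) (constructibleTopology Y) E f
      (isCompact_cons_of_isClosed hE) (continuous_cons hf))

lemma isClosed_cons_range [CompactSpace X] [QuasiSober X] [PrespectralSpace X]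
    [QuasiSeparatedSpace X] [T0Space Y] [PrespectralSpace Y] {f : X → Y} (hf : IsSpectralMap f) :
    IsClosed[constructibleTopology Y] (range f) := by
  rw [← image_univ]
  exact isClosed_cons_image hf (@isClosed_univ X (constructibleTopology X))

end Groth.Agent.Lib.Spectral.Basic
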