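import Groth.Agent.Lib.Spectral.Constructible
import Mathlib.Topology.NoetherianSpace
import Mathlib.Topology.Sober
import Mathlib.Topology.Sets.Closeds

/-!
# Constructible sets and stratifications in noetherian spaces
-/

namespace Groth.Agent.Lib.Spectral.Noetherian

open Set TopologicalSpace Topology

variable {X : Type*} [TopologicalSpace X]

/-- Every constructible set is a finite union of locally closed sets. -/
theorem exists_isLocallyClosed_of_isConstructible {E : Set X} (hE : IsConstructible E) :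
    ∃ S : Set (Set X), S.Finite ∧ (∀ L ∈ S, IsLocallyClosed L) ∧ E = ⋃₀ S :=
  Constructible.diffUnion_induction
    (P := fun E ↦ ∃ S : Set (Set X), S.Finite ∧ (∀ L ∈ S, IsLocallyClosed L) ∧ E = ⋃₀ S) hE
    (fun U V hUo _ hVo _ ↦ ⟨{U \ V}, finite_singleton _, fun L hL ↦ by
      rw [mem_singleton_iff] at hL
      exact hL ▸ ⟨U, Vᶜ, hUo, hVo.isClosed_compl, sdiff_eq⟩, by simp⟩)
    fun s t _ _ ⟨S, h1, h2, h3⟩ ⟨T, h1', h2', h3'⟩ ↦
      ⟨S ∪ T, h1.union h1', fun L hL ↦ hL.elim (h2 L) (h2' L), by rw [sUnion_union, h3, h3']⟩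

/-- A finite union of locally closed sets whose trace on an irreducible set is dense there
contains a nonempty open of that set (Stacks 005K). -/
theorem exists_isOpen_of_dense {Z : Set X} (hZ : IsIrreducible Z) {S : Set (Set X)}
    (hS : S.Finite) (hL : ∀ L ∈ S, IsLocallyClosed L) (h : Z ⊆ closure (⋃₀ S ∩ Z)) :
    ∃ U : Set X, IsOpen U ∧ (U ∩ Z).Nonempty ∧ U ∩ Z ⊆ ⋃₀ S := by
  classical
  obtain ⟨C, hC, hZC⟩ := isIrreducible_iff_sUnion_isClosed.mp hZ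
    (hS.toFinset.image fun L ↦ closure (L ∩ Z)) (by simp) (fun z hz ↦ by
      have h1 := h hz
      rw [sUnion_eq_biUnion, iUnion₂_inter, hS.closure_biUnion] at h1
      obtain ⟨L, hLS, hzL⟩ := mem_iUnion₂.mp h1
      exact mem_sUnion.mpr ⟨_, Finset.mem_image.mpr ⟨L, hS.mem_toFinset.mpr hLS, rfl⟩, hzL⟩)
  obtain ⟨L, hLS, rfl⟩ := Finset.mem_image.mp hC
  rw [hS.mem_toFinset] at hLS
  obtain ⟨U, C, hU, hC', rfl⟩ := hL L hLS
  obtain ⟨z, hz⟩ : ((U ∩ C) ∩ Z).Nonempty := closure_nonempty_iff.mp (hZ.1.mono hZC)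
  refine ⟨U, hU, ⟨z, hz.1.1, hz.2⟩, fun x hx ↦ ⟨U ∩ C, hLS, hx.1, ?_⟩⟩
  exact closure_minimal (inter_subset_left.trans inter_subset_right) hC' (hZC hx.2)

lemma subset_closure_of_isOpen {Z : Set X} (hZ : IsPreirreducible Z) {U : Set X} (hU : IsOpen U)
    (hne : (U ∩ Z).Nonempty) : Z ⊆ closure (U ∩ Z) := by
  intro z hz
  refine mem_closure_iff.mpr fun o ho hzo ↦ ?_
  obtain ⟨x, hx, hxo, hxU⟩ := hZ o U ho hU ⟨z, hz, hzo⟩ (by rwa [inter_comm] at hne)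
  exact ⟨x, hxo, hxU, hx⟩

/-- For a constructible set, a dense trace on an irreducible set contains a nonempty open. -/
theorem dense_trace_iff {Z : Set X} (hZ : IsIrreducible Z) {E : Set X} (hE : IsConstructible E) :
    Z ⊆ closure (E ∩ Z) ↔ ∃ U : Set X, IsOpen U ∧ (U ∩ Z).Nonempty ∧ U ∩ Z ⊆ E := by
  constructor
  · obtain ⟨S, h1, h2, rfl⟩ := exists_isLocallyClosed_of_isConstructible hE
    exact exists_isOpen_of_dense hZ h1 h2
  · rintro ⟨U, hU, hne, hsub⟩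
    exact (subset_closure_of_isOpen hZ.2 hU hne).trans
      (closure_mono (subset_inter hsub inter_subset_right))

lemma dense_preimage_val_iff {E Y : Set X} :
    Dense ((Subtype.val : Y → X) ⁻¹' E) ↔ Y ⊆ closure (E ∩ Y) := by
  constructor
  · intro h y hy
    have := closure_subtype.mp (h ⟨y, hy⟩)
    rwa [Subtype.image_preimage_coe, inter_comm] at this
  · intro h y
    rw [closure_subtype, Subtype.image_preimage_coe, inter_comm]
    exact h y.2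

lemma isNowhereDense_preimage_val_of_not {E Y : Set X} (hY : IsIrreducible Y)
    (h : ¬ Y ⊆ closure (E ∩ Y)) : IsNowhereDense ((Subtype.val : Y → X) ⁻¹' E) := by
  obtain ⟨y, hy, hyE⟩ := not_subset.mp h
  rw [IsNowhereDense, eq_empty_iff_forall_notMem]
  intro z hz
  obtain ⟨O, hO, hOeq⟩ := isOpen_induced_iff.mp (isOpen_interior (s := closure ((Subtype.val : Y → X) ⁻¹' E)))
  obtain ⟨w, hw, hwO, hwE⟩ := hY.2 O (closure (E ∩ Y))ᶜ hO isClosed_closure.isOpen_compl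
    ⟨z, z.2, (Set.ext_iff.mp hOeq z).mpr hz⟩ ⟨y, hy, hyE⟩
  have := closure_subtype.mp (interior_subset ((Set.ext_iff.mp hOeq ⟨w, hw⟩).mp hwO))
  rw [Subtype.image_preimage_coe, inter_comm] at this
  exact hwE this

lemma not_isNowhereDense_of_isOpen {E Y : Set X} {U : Set X} (hU : IsOpen U)
    (hne : (U ∩ Y).Nonempty) (hsub : U ∩ Y ⊆ E) :
    ¬ IsNowhereDense ((Subtype.val : Y → X) ⁻¹' E) := by
  intro h
  obtain ⟨z, hzU, hz⟩ := hne
  have : (⟨z, hz⟩ : Y) ∈ interior (closure ((Subtype.val : Y → X) ⁻¹' E)) :=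
    interior_maximal (fun (y : Y) hy ↦ subset_closure (show (y : X) ∈ E from hsub ⟨hy, y.2⟩))
      (hU.preimage continuous_subtype_val) hzU
  rw [h] at this
  exact this

variable [NoetherianSpace X]

/-- Noetherian induction on closed subsets, reduced to irreducible ones. -/
theorem closed_induction {P : Set X → Prop} (empty : P ∅)
    (union : ∀ Y Z : Set X, IsClosed Y → IsClosed Z → P Y → P Z → P (Y ∪ Z))
    (irred : ∀ Y : Set X, IsClosed Y → IsIrreducible Y →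
      (∀ Z : Set X, IsClosed Z → Z ⊂ Y → P Z) → P Y)
    {Y : Set X} (hY : IsClosed Y) : P Y := by
  suffices h : ∀ C : Closeds X, P (C : Set X) from h ⟨Y, hY⟩
  intro C
  induction C using WellFoundedLT.induction with
  | _ C ih =>
    have ih' : ∀ Z : Set X, IsClosed Z → Z ⊂ (C : Set X) → P Z := fun Z hZ hlt ↦
      ih ⟨Z, hZ⟩ hlt
    rcases (C : Set X).eq_empty_or_nonempty with h | h
    · rwa [h]
    by_cases hi : IsPreirreducible (C : Set X)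
    · exact irred _ C.isClosed ⟨h, hi⟩ ih'
    rw [isPreirreducible_iff_isClosed_union_isClosed] at hi
    push Not at hi
    obtain ⟨A, B, hA, hB, hsub, hnA, hnB⟩ := hi
    have heq : (C : Set X) = (C : Set X) ∩ A ∪ (C : Set X) ∩ B := by
      rw [← inter_union_distrib_left, inter_eq_left.mpr hsub]
    rw [heq]
    exact union _ _ (C.isClosed.inter hA) (C.isClosed.inter hB)
      (ih' _ (C.isClosed.inter hA) ⟨inter_subset_left, fun h ↦ hnA (h.trans inter_subset_right)⟩)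
      (ih' _ (C.isClosed.inter hB) ⟨inter_subset_left, fun h ↦ hnB (h.trans inter_subset_right)⟩)

/-- In a noetherian space every subset is retrocompact and locally closed sets are
constructible. -/
lemma isRetrocompact (s : Set X) : IsRetrocompact s := fun _ _ _ ↦ NoetherianSpace.isCompact _

lemma isConstructible_of_isOpen {U : Set X} (hU : IsOpen U) : IsConstructible U :=
  (isRetrocompact U).isConstructible hU

lemma isConstructible_of_isClosed {Z : Set X} (hZ : IsClosed Z) : IsConstructible Z :=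
  (isConstructible_of_isOpen hZ.isOpen_compl).of_compl

lemma isConstructible_of_isLocallyClosed {L : Set X} (hL : IsLocallyClosed L) :
    IsConstructible L := by
  obtain ⟨U, Z, hU, hZ, rfl⟩ := hL
  exact (isConstructible_of_isOpen hU).inter (isConstructible_of_isClosed hZ)

/-- Constructibility criterion (EGA 0III 9.2.3). -/
theorem isConstructible_of_forall (E : Set X)
    (h : ∀ Y : Set X, IsClosed Y → IsIrreducible Y → Y ⊆ closure (E ∩ Y) →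
      ∃ U : Set X, IsOpen U ∧ (U ∩ Y).Nonempty ∧ U ∩ Y ⊆ E) : IsConstructible E := by
  have key : IsConstructible (E ∩ univ) := by
    refine closed_induction (P := fun Y ↦ IsConstructible (E ∩ Y)) (by simp)
      (fun Y Z _ _ hY hZ ↦ by rw [inter_union_distrib_left]; exact hY.union hZ)
      (fun Y hY hYi ih ↦ ?_) isClosed_univ
    by_cases hd : Y ⊆ closure (E ∩ Y)
    · obtain ⟨U, hU, ⟨z, hzU, hzY⟩, hsub⟩ := h Y hY hYi hd
      have heq : E ∩ Y = U ∩ Y ∪ E ∩ (Y \ U) := by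
        ext x
        simp only [mem_inter_iff, mem_union, Set.mem_sdiff]
        constructor
        · rintro ⟨h1, h2⟩
          by_cases hx : x ∈ U
          · exact .inl ⟨hx, h2⟩
          · exact .inr ⟨h1, h2, hx⟩
        · rintro (⟨h1, h2⟩ | ⟨h1, h2, -⟩)
          · exact ⟨hsub ⟨h1, h2⟩, h2⟩
          · exact ⟨h1, h2⟩
      rw [heq]
      exact (isConstructible_of_isLocallyClosed ⟨U, Y, hU, hY, rfl⟩).union
        (ih _ (hY.sdiff hU) ⟨sdiff_subset, fun h' ↦ (h' hzY).2 hzU⟩)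
    · have heq : E ∩ Y = E ∩ closure (E ∩ Y) :=
        subset_antisymm (fun x hx ↦ ⟨hx.1, subset_closure hx⟩)
          fun x hx ↦ ⟨hx.1, closure_minimal inter_subset_right hY hx.2⟩
      rw [heq]
      exact ih _ isClosed_closure ⟨closure_minimal inter_subset_right hY, hd⟩
  rwa [inter_univ] at key

/-- Neighbourhood criterion. -/
theorem exists_isOpen_of_forall {E : Set X} {x : X}
    (h : ∀ Y : Set X, IsClosed Y → IsIrreducible Y → x ∈ Y →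
      ∃ U : Set X, IsOpen U ∧ (U ∩ Y).Nonempty ∧ U ∩ Y ⊆ E) : E ∈ 𝓝 x := by
  have key : ∃ V : Set X, IsOpen V ∧ x ∈ V ∧ V ∩ univ ⊆ E := by
    refine closed_induction (P := fun Y ↦ ∃ V : Set X, IsOpen V ∧ x ∈ V ∧ V ∩ Y ⊆ E)
      ⟨univ, isOpen_univ, mem_univ _, by simp⟩
      (fun Y Z _ _ ⟨V, h1, h2, h3⟩ ⟨W, h1', h2', h3'⟩ ↦ ⟨V ∩ W, h1.inter h1', ⟨h2, h2'⟩, ?_⟩)
      (fun Y hY hYi ih ↦ ?_) isClosed_univ
    · rintro y ⟨⟨hy, hy'⟩, hyY | hyZ⟩
      · exact h3 ⟨hy, hyY⟩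
      · exact h3' ⟨hy', hyZ⟩
    · by_cases hx : x ∈ Y
      · obtain ⟨U, hU, ⟨z, hzU, hzY⟩, hsub⟩ := h Y hY hYi hx
        obtain ⟨V, h1, h2, h3⟩ :=
          ih _ (hY.sdiff hU) ⟨sdiff_subset, fun h' ↦ (h' hzY).2 hzU⟩
        refine ⟨V, h1, h2, fun y hy ↦ ?_⟩
        by_cases hyU : y ∈ U
        · exact hsub ⟨hyU, hy.2⟩
        · exact h3 ⟨hy.1, hy.2, hyU⟩
      · exact ⟨Yᶜ, hY.isOpen_compl, hx, by simp⟩
  obtain ⟨V, h1, h2, h3⟩ := key
  exact Filter.mem_of_superset (h1.mem_nhds h2) (by simpa using h3)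

/-- A directed cover by sets each of which eventually contains a nonempty open of every
irreducible closed subset has the whole space as a member. -/
theorem exists_eq_univ_of_directed {ι : Type*} [Nonempty ι] (E : ι → Set X)
    (hdir : Directed (· ⊆ ·) E)
    (h : ∀ Y : Set X, IsClosed Y → IsIrreducible Y →
      ∃ a U, IsOpen U ∧ (U ∩ Y).Nonempty ∧ U ∩ Y ⊆ E a) : ∃ a, E a = univ := by
  obtain ⟨a, ha⟩ : ∃ a, (univ : Set X) ⊆ E a := by
    refine closed_induction (P := fun Y ↦ ∃ a, Y ⊆ E a)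
      ⟨Classical.arbitrary ι, empty_subset _⟩ (fun Y Z _ _ ⟨a, ha⟩ ⟨b, hb⟩ ↦ ?_)
      (fun Y hY hYi ih ↦ ?_) isClosed_univ
    · obtain ⟨c, hac, hbc⟩ := hdir a b
      exact ⟨c, union_subset (ha.trans hac) (hb.trans hbc)⟩
    · obtain ⟨a, U, hU, ⟨z, hzU, hzY⟩, hsub⟩ := h Y hY hYi
      obtain ⟨b, hb⟩ := ih _ (hY.sdiff hU) ⟨sdiff_subset, fun h' ↦ (h' hzY).2 hzU⟩
      obtain ⟨c, hac, hbc⟩ := hdir a b
      refine ⟨c, fun y hy ↦ ?_⟩
      by_cases hyU : y ∈ U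
      · exact hac (hsub ⟨hyU, hy⟩)
      · exact hbc (hb ⟨hy, hyU⟩)
  exact ⟨a, univ_subset_iff.mp ha⟩

/-- A finite family of irreducible closed subsets of `Y` is a good refinement of `𝒜` on `Y`. -/
structure IsGood (Y : Set X) (𝒜 𝒵 : Set (Set X)) : Prop where
  finite : 𝒵.Finite
  irred : ∀ Z ∈ 𝒵, IsClosed Z ∧ IsIrreducible Z ∧ Z ⊆ Y
  cover : ∀ x ∈ Y, ∃ Z ∈ 𝒵, x ∈ Z
  refines : ∀ A ∈ 𝒜, ∀ x ∈ A ∩ Y, ∃ Z ∈ 𝒵, x ∈ Z ∧ Z ⊆ A
  inter : ∀ Z ∈ 𝒵, ∀ Z' ∈ 𝒵, ∀ x ∈ Z ∩ Z', ∃ W ∈ 𝒵, x ∈ W ∧ W ⊆ Z ∩ Z'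

theorem exists_isGood (Y : Closeds X) :
    ∀ 𝒜 : Set (Set X), 𝒜.Finite → (∀ A ∈ 𝒜, IsClosed A) →
      ∃ 𝒵, IsGood (Y : Set X) 𝒜 𝒵 := by
  induction Y using WellFoundedLT.induction with
  | _ Y ih =>
    intro 𝒜 h𝒜 hcl
    rcases (Y : Set X).eq_empty_or_nonempty with hY0 | ⟨y₀, hy₀⟩
    · exact ⟨∅, finite_empty, by simp, by simp [hY0], by simp [hY0], by simp⟩
    obtain ⟨S, hSfin, hSc, hSi, hYS⟩ := NoetherianSpace.exists_finite_set_isClosed_irreducible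
      Y.isClosed
    obtain ⟨C, hC⟩ : ∃ C, C ⊆ S ∧ (Y : Set X) = ⋃₀ C ∧ ∀ A ∈ C, ∀ B ∈ C, A ⊆ B → A = B := by
      refine ⟨{A ∈ S | ∀ B ∈ S, A ⊆ B → A = B}, fun A hA ↦ hA.1, subset_antisymm (fun x hx ↦ ?_)
        (hYS ▸ sUnion_mono fun A hA ↦ hA.1), fun A hA B hB h ↦ hA.2 B hB.1 h⟩
      rw [hYS] at hx
      obtain ⟨A, hA, hxA⟩ := hx
      obtain ⟨B, hAB, hB⟩ := hSfin.exists_le_maximal hA
      exact ⟨B, ⟨hB.1, fun B' hB' h ↦ subset_antisymm h (hB.2 hB' h)⟩, hAB hxA⟩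
    obtain ⟨hCS, hYC, hmax⟩ := hC
    have hCfin := hSfin.subset hCS
    let pieces : Set (Set X) :=
      {P | ∃ A ∈ C, ∃ B ∈ C, A ≠ B ∧ P = A ∩ B} ∪ {P | ∃ A ∈ C, ∃ B ∈ 𝒜, ¬ A ⊆ B ∧ P = A ∩ B}
    have hpfin : pieces.Finite := by
      refine ((hCfin.image2 (· ∩ ·) hCfin).subset ?_).union ((hCfin.image2 (· ∩ ·) h𝒜).subset ?_)
      · rintro _ ⟨A, hA, B, hB, -, rfl⟩
        exact mem_image2_of_mem hA hB
      · rintro _ ⟨A, hA, B, hB, -, rfl⟩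
        exact mem_image2_of_mem hA hB
    have hpc : ∀ P ∈ pieces, IsClosed P := by
      rintro _ (⟨A, hA, B, hB, -, rfl⟩ | ⟨A, hA, B, hB, -, rfl⟩)
      · exact (hSc A (hCS hA)).inter (hSc B (hCS hB))
      · exact (hSc A (hCS hA)).inter (hcl B hB)
    have hCY : ∀ A ∈ C, A ⊆ (Y : Set X) := fun A hA ↦ hYC ▸ subset_sUnion_of_mem hA
    let Y' : Closeds X := ⟨⋃₀ pieces, by rw [sUnion_eq_biUnion]; exact Set.Finite.isClosed_biUnion hpfin hpc⟩
    have hlt : Y' < Y := by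
      refine ⟨?_, fun hle ↦ ?_⟩
      · refine sUnion_subset ?_
        rintro _ (⟨A, hA, B, hB, -, rfl⟩ | ⟨A, hA, B, hB, -, rfl⟩) <;>
          exact inter_subset_left.trans (hCY A hA)
      rw [hYC] at hy₀
      obtain ⟨A, hA, -⟩ := hy₀
      obtain ⟨P, hP, hAP⟩ := isIrreducible_iff_sUnion_isClosed.mp (hSi A (hCS hA)) hpfin.toFinset
        (fun P hP ↦ hpc P (hpfin.mem_toFinset.mp hP))
        (by rw [Finite.coe_toFinset]; exact (hCY A hA).trans hle)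
      rw [hpfin.mem_toFinset] at hP
      rcases hP with ⟨A', hA', B, hB, hne, rfl⟩ | ⟨A', hA', B, hB, hnot, rfl⟩
      · exact hne ((hmax A hA A' hA' (hAP.trans inter_subset_left)).symm.trans
          (hmax A hA B hB (hAP.trans inter_subset_right)))
      · exact hnot (hmax A hA A' hA' (hAP.trans inter_subset_left) ▸ hAP.trans inter_subset_right)
    obtain ⟨𝒵, hg⟩ := ih Y' hlt (𝒜 ∪ C) (h𝒜.union hCfin)
      fun A hA ↦ hA.elim (hcl A) fun h ↦ hSc A (hCS h)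
    have hY' : ∀ A ∈ C, ∀ B ∈ C, A ≠ B → ∀ x ∈ A ∩ B, x ∈ (Y' : Set X) := fun A hA B hB hne x hx ↦
      mem_sUnion.mpr ⟨_, .inl ⟨A, hA, B, hB, hne, rfl⟩, hx⟩
    refine ⟨C ∪ 𝒵, hCfin.union hg.finite, ?_, fun x hx ↦ ?_, fun A hA x hx ↦ ?_, ?_⟩
    · rintro Z (hZ | hZ)
      · exact ⟨hSc Z (hCS hZ), hSi Z (hCS hZ), hCY Z hZ⟩
      · exact ⟨(hg.irred Z hZ).1, (hg.irred Z hZ).2.1, (hg.irred Z hZ).2.2.trans hlt.1⟩
    · rw [hYC] at hx
      obtain ⟨Z, hZ, hxZ⟩ := hx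
      exact ⟨Z, .inl hZ, hxZ⟩
    · have hxY := hx.2
      rw [hYC] at hxY
      obtain ⟨Z, hZ, hxZ⟩ := hxY
      by_cases hZA : Z ⊆ A
      · exact ⟨Z, .inl hZ, hxZ, hZA⟩
      · obtain ⟨W, hW, hxW, hWA⟩ := hg.refines A (.inl hA) x
          ⟨hx.1, mem_sUnion.mpr ⟨_, .inr ⟨Z, hZ, A, hA, hZA, rfl⟩, hxZ, hx.1⟩⟩
        exact ⟨W, .inr hW, hxW, hWA⟩
    · have key : ∀ Z ∈ C, ∀ Z' ∈ 𝒵, ∀ x ∈ Z ∩ Z', ∃ W ∈ C ∪ 𝒵, x ∈ W ∧ W ⊆ Z ∩ Z' := by
        intro Z hZ Z' hZ' x hx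
        obtain ⟨W₁, hW₁, hxW₁, hW₁Z⟩ :=
          hg.refines Z (.inr hZ) x ⟨hx.1, (hg.irred Z' hZ').2.2 hx.2⟩
        obtain ⟨W, hW, hxW, hWsub⟩ := hg.inter W₁ hW₁ Z' hZ' x ⟨hxW₁, hx.2⟩
        exact ⟨W, .inr hW, hxW, hWsub.trans (inter_subset_inter_left _ hW₁Z)⟩
      rintro Z (hZ | hZ) Z' (hZ' | hZ') x hx
      · rcases eq_or_ne Z Z' with rfl | hne
        · exact ⟨Z, .inl hZ, hx.1, by simp⟩
        have hxY' := hY' Z hZ Z' hZ' hne x hx
        obtain ⟨W₁, hW₁, hxW₁, hW₁Z⟩ := hg.refines Z (.inr hZ) x ⟨hx.1, hxY'⟩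
        obtain ⟨W₂, hW₂, hxW₂, hW₂Z⟩ := hg.refines Z' (.inr hZ') x ⟨hx.2, hxY'⟩
        obtain ⟨W, hW, hxW, hWsub⟩ := hg.inter W₁ hW₁ W₂ hW₂ x ⟨hxW₁, hxW₂⟩
        exact ⟨W, .inr hW, hxW, hWsub.trans (inter_subset_inter hW₁Z hW₂Z)⟩
      · exact key Z hZ Z' hZ' x hx
      · obtain ⟨W, hW, hxW, hWsub⟩ := key Z' hZ' Z hZ x ⟨hx.2, hx.1⟩
        exact ⟨W, hW, hxW, hWsub.trans (inter_comm _ _).subset⟩
      · obtain ⟨W, hW, hxW, hWsub⟩ := hg.inter Z hZ Z' hZ' x hx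
        exact ⟨W, .inr hW, hxW, hWsub⟩

end Groth.Agent.Lib.Spectral.Noetherian
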