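import Mathlib.Topology.Constructible
import Mathlib.Topology.LocallyClosed

/-!
# General facts on constructible and retrocompact subsets
-/

namespace Groth.Agent.Lib.Spectral.Constructible

open Set TopologicalSpace Topology

variable {X : Type*} [TopologicalSpace X]

/-- Induction principle: constructible sets are finite unions of differences of retrocompact
opens. -/
theorem diffUnion_induction {P : Set X → Prop} {s : Set X} (hs : IsConstructible s)
    (sdiff : ∀ U V : Set X, IsOpen U → IsRetrocompact U → IsOpen V → IsRetrocompact V → P (U \ V))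
    (union : ∀ s t : Set X, IsConstructible s → IsConstructible t → P s → P t → P (s ∪ t)) :
    P s := by
  induction s, hs using BooleanSubalgebra.closure_sdiff_sup_induction with
  | isSublattice =>
    exact ⟨fun s hs t ht ↦ ⟨hs.1.union ht.1, hs.2.union ht.2⟩,
      fun s hs t ht ↦ ⟨hs.1.inter ht.1, hs.2.inter_isOpen ht.2 ht.1⟩⟩
  | bot_mem => exact ⟨isOpen_empty, .empty⟩
  | top_mem => exact ⟨isOpen_univ, .univ⟩
  | sdiff U hU V hV => exact sdiff U V hU.1 hU.2 hV.1 hV.2
  | sup s hs t ht hs' ht' => exact union s t hs ht hs' ht'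

/-- Constructible sets are retrocompact (Stacks 005K). -/
theorem isRetrocompact {s : Set X} (hs : IsConstructible s) : IsRetrocompact s :=
  diffUnion_induction hs (fun U V _ hU hVo _ W hWc hWo ↦ by
    rw [sdiff_eq, inter_right_comm]
    exact (hU hWc hWo).inter_right hVo.isClosed_compl) fun _ _ _ _ h1 h2 ↦ h1.union h2

/-- A compact open of a subspace of a prespectral space is the trace of a compact open. -/
lemma exists_compactOpen_trace [PrespectralSpace X] {T : Set X} {K : Set T} (hKc : IsCompact K)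
    (hKo : IsOpen K) : ∃ W : Set X, IsOpen W ∧ IsCompact W ∧ Subtype.val ⁻¹' W = K := by
  obtain ⟨V, hV, rfl⟩ := isOpen_induced_iff.mp hKo
  obtain ⟨W, hWc, hWo, hKW, hWV⟩ := PrespectralSpace.exists_isCompact_and_isOpen_between
    (hKc.image continuous_subtype_val) hV (image_preimage_subset _ _)
  exact ⟨W, hWo, hWc, subset_antisymm (preimage_mono hWV) (image_subset_iff.mp hKW)⟩

/-- The trace of a constructible set on a retrocompact subset is constructible. -/
theorem preimage_val [PrespectralSpace X] {T E : Set X} (hT : IsRetrocompact T)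
    (hE : IsConstructible E) : IsConstructible ((Subtype.val : T → X) ⁻¹' E) := by
  refine hE.preimage continuous_subtype_val fun s hso hs K hKc hKo ↦ ?_
  obtain ⟨W, hWo, hWc, rfl⟩ := exists_compactOpen_trace hKc hKo
  rw [← preimage_inter, IsEmbedding.subtypeVal.isCompact_iff, Subtype.image_preimage_coe]
  exact hT (hs hWc hWo) (hso.inter hWo)

/-- A constructible subset of a constructible subspace is constructible. -/
theorem image_val [PrespectralSpace X] {E : Set X} (hE : IsConstructible E) {F : Set E}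
    (hF : IsConstructible F) : IsConstructible ((Subtype.val : E → X) '' F) := by
  suffices h : ∀ P : Set X, IsConstructible P → P ⊆ E →
      IsConstructible (P ∩ (Subtype.val : E → X) '' F) by
    have := h E hE subset_rfl
    rwa [inter_eq_right.mpr (Subtype.coe_image_subset E F)] at this
  intro P hP
  refine diffUnion_induction (P := fun P ↦ P ⊆ E →
    IsConstructible (P ∩ (Subtype.val : E → X) '' F)) hP (fun U V hUo hU hVo hV hsub ↦ ?_)
    fun s t _ _ h1 h2 hst ↦ by
      rw [union_inter_distrib_right]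
      exact (h1 (subset_union_left.trans hst)).union (h2 (subset_union_right.trans hst))
  have hUV : IsConstructible (U \ V) := (hU.isConstructible hUo).sdiff (hV.isConstructible hVo)
  induction hF using IsConstructible.empty_union_induction with
  | open_retrocompact s hso hs =>
    obtain ⟨O, hO, rfl⟩ := isOpen_induced_iff.mp hso
    have hopen : IsOpen (U ∩ (O ∪ V)) := hUo.inter (hO.union hVo)
    have hr : IsRetrocompact (U ∩ (O ∪ V)) := by
      intro W hWc hWo
      have h1 : IsCompact ((U \ V) ∩ O ∩ W) := by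
        have hKo : IsOpen ((Subtype.val : E → X) ⁻¹' W) := hWo.preimage continuous_subtype_val
        have hKc : IsCompact ((Subtype.val : E → X) ⁻¹' W) := by
          rw [IsEmbedding.subtypeVal.isCompact_iff, Subtype.image_preimage_coe]
          exact isRetrocompact hE hWc hWo
        obtain ⟨W', hWo', hWc', hW'⟩ := exists_compactOpen_trace (hs hKc hKo) (hso.inter hKo)
        have : (U \ V) ∩ O ∩ W = (U \ V) ∩ W' := by
          ext x
          constructor
          · rintro ⟨⟨hx, hxO⟩, hxW⟩
            exact ⟨hx, (Set.ext_iff.mp hW' ⟨x, hsub hx⟩).mpr ⟨hxO, hxW⟩⟩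
          · rintro ⟨hx, hxW'⟩
            obtain ⟨h1, h2⟩ := (Set.ext_iff.mp hW' ⟨x, hsub hx⟩).mp hxW'
            exact ⟨⟨hx, h1⟩, h2⟩
        rw [this]
        exact isRetrocompact hUV hWc' hWo'
      have : U ∩ (O ∪ V) ∩ W = (U \ V) ∩ O ∩ W ∪ U ∩ V ∩ W := by
        ext x
        simp only [mem_inter_iff, mem_union, Set.mem_sdiff]
        tauto
      rw [this]
      exact h1.union ((hU.inter_isOpen hV hVo) hWc hWo)
    have : (U \ V) ∩ Subtype.val '' ((Subtype.val : E → X) ⁻¹' O) = (U ∩ (O ∪ V)) \ V := by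
      rw [Subtype.image_preimage_coe]
      ext x
      simp only [mem_inter_iff, mem_union, Set.mem_sdiff]
      constructor
      · rintro ⟨⟨h1, h2⟩, -, h3⟩
        exact ⟨⟨h1, .inl h3⟩, h2⟩
      · rintro ⟨⟨h1, h3⟩, h2⟩
        exact ⟨⟨h1, h2⟩, hsub ⟨h1, h2⟩, h3.resolve_right h2⟩
    rw [this]
    exact (hr.isConstructible hopen).sdiff (hV.isConstructible hVo)
  | union s hs t ht hs' ht' =>
    rw [image_union, inter_union_distrib_left]
    exact hs'.union ht'
  | compl s hs hs' =>
    have : (U \ V) ∩ Subtype.val '' (sᶜ) = (U \ V) \ ((U \ V) ∩ (Subtype.val : E → X) '' s) := by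
      ext x
      constructor
      · rintro ⟨hx, ⟨e, he, rfl⟩⟩
        exact ⟨hx, fun h ↦ he (Subtype.val_injective.mem_set_image.mp h.2)⟩
      · rintro ⟨hx, h⟩
        exact ⟨hx, ⟨x, hsub hx⟩, fun he ↦ h ⟨hx, _, he, rfl⟩, rfl⟩
    rw [this]
    exact hUV.sdiff hs'

/-- The atoms cut out by finitely many sets. -/
def atom {m : Type*} (U : m → Set X) (s : Set m) : Set X := {x | ∀ i, x ∈ U i ↔ i ∈ s}

lemma mem_atom {m : Type*} (U : m → Set X) (x : X) : x ∈ atom U {i | x ∈ U i} := fun _ ↦ Iff.rfl

lemma atom_eq_inter {m : Type*} (U : m → Set X) (s : Set m) :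
    atom U s = (⋂ i ∈ s, U i) ∩ ⋂ i ∈ sᶜ, (U i)ᶜ := by
  ext x
  simp only [atom, Set.mem_ofPred_eq, mem_inter_iff, mem_iInter, mem_compl_iff]
  exact ⟨fun h ↦ ⟨fun i hi ↦ (h i).mpr hi, fun i hi hx ↦ hi ((h i).mp hx)⟩,
    fun h i ↦ ⟨fun hx ↦ by_contra fun hi ↦ h.2 i hi hx, h.1 i⟩⟩

lemma isLocallyClosed_atom {m : Type*} [Finite m] (U : m → Set X) (hU : ∀ i, IsOpen (U i))
    (s : Set m) : IsLocallyClosed (atom U s) :=
  ⟨_, _, s.toFinite.isOpen_biInter fun i _ ↦ hU i, isClosed_biInter fun i _ ↦ (hU i).isClosed_compl,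
    atom_eq_inter U s⟩

lemma closure_atom_subset {m : Type*} (U : m → Set X) (hU : ∀ i, IsOpen (U i)) (s : Set m) :
    closure (atom U s) ⊆ ⋃ t ∈ Set.Iic s, atom U t := by
  intro x hx
  refine mem_iUnion₂.mpr ⟨_, fun i hi ↦ ?_, mem_atom U x⟩
  obtain ⟨y, hyU, hy⟩ := mem_closure_iff.mp hx _ (hU i) hi
  exact (hy i).mp hyU

end Groth.Agent.Lib.Spectral.Constructible
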