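import Groth.Agent.Lib.Spectral.Basic

/-!
# Subspaces of spectral spaces closed in the constructible topology
-/

namespace Groth.Agent.Lib.Spectral.Subspace

open Set TopologicalSpace Topology
open Groth.Agent.Lib.Spectral.Basic

variable {X : Type*} [TopologicalSpace X] [SpectralSpace X] {E : Set X}

lemma isSpectralMap_val (hE : IsClosed[constructibleTopology X] E) :
    IsSpectralMap (Subtype.val : E → X) := by
  refine ⟨continuous_subtype_val, fun U hUo hUc ↦ ?_⟩
  rw [IsEmbedding.subtypeVal.isCompact_iff, Subtype.image_preimage_coe]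
  exact isCompact_of_isClosed_cons
    (@IsClosed.inter X E U (constructibleTopology X) hE (isClosed_cons hUo hUc))

/-- A compact open of the subspace is the trace of a compact open. -/
lemma exists_compactOpen_preimage_eq (E : Set X) {U : Set E} (hUo : IsOpen U) (hUc : IsCompact U) :
    ∃ W : Set X, IsOpen W ∧ IsCompact W ∧ Subtype.val ⁻¹' W = U := by
  obtain ⟨V, hV, rfl⟩ := isOpen_induced_iff.mp hUo
  obtain ⟨W, hWc, hWo, hKW, hWV⟩ := PrespectralSpace.exists_isCompact_and_isOpen_between
    (hUc.image continuous_subtype_val) hV (image_preimage_subset _ _)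
  exact ⟨W, hWo, hWc, subset_antisymm (preimage_mono hWV)
    (image_subset_iff.mp hKW)⟩

/-- A subspace closed in the constructible topology is spectral (Stacks 0902). -/
theorem spectralSpace (hE : IsClosed[constructibleTopology X] E) : SpectralSpace E where
  toT0Space := inferInstance
  toCompactSpace := isCompact_iff_compactSpace.mp (isCompact_of_isClosed_cons hE)
  toPrespectralSpace :=
    PrespectralSpace.of_isInducing _ IsInducing.subtypeVal (isSpectralMap_val hE)
  toQuasiSeparatedSpace := ⟨fun U V hUo hUc hVo hVc ↦ by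
    obtain ⟨U', hUo', hUc', rfl⟩ := exists_compactOpen_preimage_eq E hUo hUc
    obtain ⟨V', hVo', hVc', rfl⟩ := exists_compactOpen_preimage_eq E hVo hVc
    rw [← preimage_inter]
    exact (hUc'.inter_of_isOpen hVc' hUo' hVo').preimage_of_isOpen (isSpectralMap_val hE)
      (hUo'.inter hVo')⟩
  toQuasiSober := ⟨fun {Z} hZi hZc ↦ by
    have hi : IsIrreducible ((Subtype.val : E → X) '' Z) :=
      hZi.image _ continuous_subtype_val.continuousOn
    obtain ⟨ξ, hξ⟩ := QuasiSober.sober hi.closure isClosed_closure
    have hclo : IsClosed[constructibleTopology X] (E ∩ closure ((Subtype.val : E → X) '' Z)) :=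
      @IsClosed.inter X E _ (constructibleTopology X) hE (isClosed_cons_of_isClosed isClosed_closure)
    have hξ' : ξ ∈ closure (E ∩ closure ((Subtype.val : E → X) '' Z)) :=
      closure_mono (subset_inter (Subtype.coe_image_subset E Z) subset_closure) hξ.mem
    obtain ⟨e, ⟨heE, heZ⟩, he⟩ := exists_specializes_of_mem_closure hclo hξ'
    have heq : e = ξ := (he.antisymm (hξ.specializes heZ)).eq
    subst heq
    refine ⟨⟨e, heE⟩, ?_⟩
    have hgen : ∀ z : E, z ∈ Z ↔ (z : X) ∈ closure ((Subtype.val : E → X) '' Z) := fun z ↦ by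
      rw [← closure_subtype (s := Z), hZc.closure_eq]
    rw [isGenericPoint_iff_specializes]
    intro z
    rw [hgen z, ← hξ.specializes_iff_mem]
    exact (subtype_specializes_iff (x := (⟨e, heE⟩ : E)) (y := z))⟩

end Groth.Agent.Lib.Spectral.Subspace
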