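import Groth.Agent.Lib.Spectral.Subspace
import Mathlib.Topology.QuasiSeparated
import Mathlib.Topology.Order

/-!
# Products of spectral spaces, finite spaces, powers of the Sierpiński space
-/

namespace Groth.Agent.Lib.Spectral.Product

open Set TopologicalSpace Topology
open Groth.Agent.Lib.Spectral.Basic

variable {X : Type*} [TopologicalSpace X] {Y : Type*} [TopologicalSpace Y]

/-- A finite space is quasi-sober. -/
theorem quasiSober_of_finite [Finite X] : QuasiSober X := by
  refine ⟨fun {Z} hZi hZc ↦ ?_⟩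
  obtain ⟨t, ⟨z, hz, rfl⟩, ht⟩ := isIrreducible_iff_sUnion_isClosed.mp hZi
    ((Set.toFinite ((fun z ↦ closure ({z} : Set X)) '' Z)).toFinset)
    (by simp) (fun x hx ↦ by
      simp only [Finite.coe_toFinset, mem_sUnion, mem_image]
      exact ⟨closure {x}, ⟨x, hx, rfl⟩, subset_closure rfl⟩) |>.imp fun t h ↦
      (⟨(Set.Finite.mem_toFinset _).mp h.1, h.2⟩ : t ∈ (fun z ↦ closure ({z} : Set X)) '' Z ∧ Z ⊆ t)
  exact ⟨z, subset_antisymm (closure_minimal (singleton_subset_iff.mpr hz) hZc) ht⟩

/-- A finite T0 space is spectral. -/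
theorem spectralSpace_of_finite [Finite X] [T0Space X] : SpectralSpace X :=
  have := quasiSober_of_finite (X := X)
  have : CompactSpace X := ⟨Set.finite_univ.isCompact⟩
  have : QuasiSeparatedSpace X := ⟨fun U V _ _ _ _ ↦ (Set.toFinite _).isCompact⟩
  have : PrespectralSpace X :=
    .of_isTopologicalBasis isTopologicalBasis_opens fun U _ ↦ (Set.toFinite U).isCompact
  {}

/-- The product of two spectral spaces is spectral. -/
theorem spectralSpace_prod [SpectralSpace X] [SpectralSpace Y] : SpectralSpace (X × Y) := by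
  let ι := {U : Set X // IsOpen U ∧ IsCompact U} × {V : Set Y // IsOpen V ∧ IsCompact V}
  let b : ι → Set (X × Y) := fun p ↦ p.1.1 ×ˢ p.2.1
  have hb : IsTopologicalBasis (range b) := by
    have h := (PrespectralSpace.isTopologicalBasis (X := X)).prod
      (PrespectralSpace.isTopologicalBasis (X := Y))
    convert! h using 1
    ext W
    constructor
    · rintro ⟨p, rfl⟩
      exact ⟨p.1.1, p.1.2, p.2.1, p.2.2, rfl⟩
    · rintro ⟨U, hU, V, hV, rfl⟩
      exact ⟨(⟨U, hU⟩, ⟨V, hV⟩), rfl⟩
  have hbc : ∀ p, IsCompact (b p) := fun p ↦ p.1.2.2.prod p.2.2.2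
  have : PrespectralSpace (X × Y) := .of_isTopologicalBasis' hb hbc
  have : QuasiSeparatedSpace (X × Y) := .of_isTopologicalBasis hb fun p q ↦ by
    simp only [b, prod_inter_prod]
    exact (p.1.2.2.inter_of_isOpen q.1.2.2 p.1.2.1 q.1.2.1).prod
      (p.2.2.2.inter_of_isOpen q.2.2.2 p.2.2.1 q.2.2.1)
  have : QuasiSober (X × Y) := by
    refine ⟨fun {Z} hZi hZc ↦ ?_⟩
    obtain ⟨x, hx⟩ := QuasiSober.sober (hZi.image _ continuous_fst.continuousOn).closure isClosed_closure
    obtain ⟨y, hy⟩ := QuasiSober.sober (hZi.image _ continuous_snd.continuousOn).closure isClosed_closure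
    refine ⟨(x, y), subset_antisymm (closure_minimal (singleton_subset_iff.mpr ?_) hZc) fun z hz ↦ ?_⟩
    · by_contra hxy
      obtain ⟨U, V, hU, hV, hxU, hyV, hUV⟩ := isOpen_prod_iff.mp hZc.isOpen_compl x y hxy
      obtain ⟨_, hpU, p, hp, rfl⟩ := mem_closure_iff.mp hx.mem U hU hxU
      obtain ⟨_, hqV, q, hq, rfl⟩ := mem_closure_iff.mp hy.mem V hV hyV
      obtain ⟨w, hw, hwU, hwV⟩ := hZi.2 (Prod.fst ⁻¹' U) (Prod.snd ⁻¹' V)
        (hU.preimage continuous_fst) (hV.preimage continuous_snd) ⟨p, hp, hpU⟩ ⟨q, hq, hqV⟩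
      exact hUV (show w ∈ U ×ˢ V from ⟨hwU, hwV⟩) hw
    · exact ((hx.specializes (subset_closure (mem_image_of_mem _ hz))).prod
        (hy.specializes (subset_closure (mem_image_of_mem _ hz)))).mem_closure
  exact {}

section Sierpinski

variable {I : Type*}

/-- The basic opens of a power of the Sierpiński space. -/
def cylinder (s : Finset I) : Set (I → Prop) := {f | ∀ i ∈ s, f i}

lemma isOpen_cylinder (s : Finset I) : IsOpen (cylinder s) := by
  have : cylinder s = ⋂ i ∈ s, (fun f : I → Prop ↦ f i) ⁻¹' {True} := by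
    ext f
    simp [cylinder]
  rw [this]
  exact isOpen_biInter_finset fun i _ ↦ isOpen_singleton_true.preimage (continuous_apply i)

lemma exists_cylinder_subset {f : I → Prop} {W : Set (I → Prop)} (hW : IsOpen W) (hf : f ∈ W) :
    ∃ s : Finset I, f ∈ cylinder s ∧ cylinder s ⊆ W := by
  classical
  obtain ⟨t, u, hu, hsub⟩ := isOpen_pi_iff.mp hW f hf
  refine ⟨t.filter (fun i ↦ f i), fun i hi ↦ (Finset.mem_filter.mp hi).2, fun g hg ↦ hsub fun i hi ↦ ?_⟩
  by_cases hfi : f i
  · have hgi : g i := hg i (Finset.mem_filter.mpr ⟨hi, hfi⟩)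
    rw [show g i = f i from propext (iff_of_true hgi hfi)]
    exact (hu i hi).2
  · have h1 : u i ∈ nhds (f i) := (hu i hi).1.mem_nhds (hu i hi).2
    rw [eq_false hfi, nhds_false, Filter.mem_top] at h1
    exact h1 ▸ mem_univ _

lemma isTopologicalBasis_cylinder : IsTopologicalBasis (range (cylinder (I := I))) := by
  refine isTopologicalBasis_of_isOpen_of_nhds ?_ fun f W hf hW ↦ ?_
  · rintro _ ⟨s, rfl⟩
    exact isOpen_cylinder s
  · obtain ⟨s, h1, h2⟩ := exists_cylinder_subset hW hf
    exact ⟨_, mem_range_self s, h1, h2⟩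

lemma isCompact_cylinder (s : Finset I) : IsCompact (cylinder s) := by
  refine isCompact_of_finite_subcover fun U hU hcov ↦ ?_
  obtain ⟨i, hi⟩ := mem_iUnion.mp (hcov (show (fun j ↦ j ∈ s) ∈ cylinder s from fun j hj ↦ hj))
  refine ⟨{i}, ?_⟩
  obtain ⟨t, ht, htU⟩ := exists_cylinder_subset (hU i) hi
  intro g hg
  simp only [Finset.mem_singleton, iUnion_iUnion_eq_left]
  exact htU fun j hj ↦ hg j (ht j hj)

theorem spectralSpace_pi_prop : SpectralSpace (I → Prop) := by
  have : CompactSpace (I → Prop) := ⟨by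
    convert isCompact_cylinder (∅ : Finset I)
    ext f
    simp [cylinder]⟩
  have : PrespectralSpace (I → Prop) :=
    .of_isTopologicalBasis' isTopologicalBasis_cylinder isCompact_cylinder
  have : QuasiSeparatedSpace (I → Prop) :=
    .of_isTopologicalBasis isTopologicalBasis_cylinder fun s t ↦ by
      classical
      convert isCompact_cylinder (s ∪ t) using 1
      ext f
      simp only [cylinder, Finset.mem_union, mem_inter_iff, Set.mem_ofPred_eq]
      exact ⟨fun h i hi ↦ hi.elim (h.1 i) (h.2 i), fun h ↦ ⟨fun i hi ↦ h i (.inl hi),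
        fun i hi ↦ h i (.inr hi)⟩⟩
  have : T0Space (I → Prop) := ⟨fun f g h ↦ funext fun i ↦ propext
    ⟨fun hf ↦ (h.mem_open_iff (isOpen_cylinder {i})).mp (by simpa [cylinder] using hf) i
      (Finset.mem_singleton_self i),
    fun hg ↦ (h.mem_open_iff (isOpen_cylinder {i})).mpr (by simpa [cylinder] using hg) i
      (Finset.mem_singleton_self i)⟩⟩
  have : QuasiSober (I → Prop) := by
    refine ⟨fun {Z} hZi hZc ↦ ?_⟩
    refine ⟨fun i ↦ ∃ f ∈ Z, f i, subset_antisymm (closure_minimal (singleton_subset_iff.mpr ?_) hZc)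
      fun z hz ↦ ?_⟩
    · by_contra hg
      obtain ⟨s, hs, hsub⟩ := exists_cylinder_subset hZc.isOpen_compl hg
      classical
      have : (Z ∩ cylinder s).Nonempty := by
        clear hsub
        induction s using Finset.induction_on with
        | empty =>
          obtain ⟨f, hf⟩ := hZi.1
          exact ⟨f, hf, by simp [cylinder]⟩
        | insert a s ha ih =>
          obtain ⟨f₁, h₁⟩ := ih fun i hi ↦ hs i (Finset.mem_insert_of_mem hi)
          obtain ⟨f₂, h₂, h₂'⟩ := hs a (Finset.mem_insert_self a s)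
          obtain ⟨f, hf, hfs, hfa⟩ := hZi.2 (cylinder s) (cylinder {a}) (isOpen_cylinder s)
            (isOpen_cylinder {a}) ⟨f₁, h₁⟩ ⟨f₂, h₂, by simpa [cylinder] using h₂'⟩
          refine ⟨f, hf, fun i hi ↦ ?_⟩
          rcases Finset.mem_insert.mp hi with rfl | hi
          · exact hfa i (Finset.mem_singleton_self i)
          · exact hfs i hi
      obtain ⟨f, hf, hfs⟩ := this
      exact hsub hfs hf
    · refine Specializes.mem_closure (specializes_iff_forall_open.mpr fun W hW hzW ↦ ?_)
      obtain ⟨s, hs, hsub⟩ := exists_cylinder_subset hW hzW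
      exact hsub fun i hi ↦ ⟨z, hz, hs i hi⟩
  exact {}

end Sierpinski

end Groth.Agent.Lib.Spectral.Product

namespace Groth.Agent.Lib.Spectral.Product

open Set TopologicalSpace Topology
open Groth.Agent.Lib.Spectral.Basic

section Embedding

variable (X : Type*) [TopologicalSpace X]

/-- The quasi-compact opens. -/
abbrev QC : Type _ := {U : Set X // IsOpen U ∧ IsCompact U}

/-- The canonical map to a power of the Sierpiński space. -/
def toPiProp (x : X) (U : QC X) : Prop := x ∈ U.1

lemma preimage_cylinder (s : Finset (QC X)) : toPiProp X ⁻¹' cylinder s = ⋂ U ∈ s, U.1 := by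
  ext x
  simp [cylinder, toPiProp]

variable [SpectralSpace X]

lemma isCompact_biInter (s : Finset (QC X)) : IsCompact (⋂ U ∈ s, U.1) :=
  isCompact_of_isClosed_cons (@isClosed_biInter X (QC X) (constructibleTopology X) (s : Set (QC X))
    (fun U ↦ U.1) fun U _ ↦ isClosed_cons U.2.1 U.2.2)

lemma isSpectralMap_toPiProp : IsSpectralMap (toPiProp X) := by
  refine ⟨continuous_pi fun U ↦ continuous_Prop.mpr U.2.1, fun W hWo hWc ↦ ?_⟩
  obtain ⟨t, ht, rfl⟩ := (isCompact_open_iff_eq_finite_iUnion_of_isTopologicalBasis _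
    (isTopologicalBasis_cylinder (I := QC X)) isCompact_cylinder _).mp ⟨hWc, hWo⟩
  simp only [preimage_iUnion, preimage_cylinder]
  exact ht.isCompact_biUnion fun s _ ↦ isCompact_biInter X s

lemma isEmbedding_toPiProp : IsEmbedding (toPiProp X) := by
  refine IsInducing.isEmbedding (isInducing_iff_nhds.mpr fun x ↦ le_antisymm ?_ fun V hV ↦ ?_)
  · exact ((isSpectralMap_toPiProp X).continuous.tendsto x).le_comap
  · obtain ⟨U, ⟨hUo, hUc⟩, hxU, hUV⟩ :=
      PrespectralSpace.isTopologicalBasis.mem_nhds_iff.mp hV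
    refine Filter.mem_of_superset (Filter.preimage_mem_comap
      ((isOpen_cylinder {⟨U, hUo, hUc⟩}).mem_nhds ?_)) (subset_trans ?_ hUV)
    · simpa [cylinder, toPiProp] using hxU
    · intro y hy
      simpa [cylinder, toPiProp] using hy

lemma isClosed_cons_range_toPiProp :
    IsClosed[constructibleTopology (QC X → Prop)] (range (toPiProp X)) :=
  have := spectralSpace_pi_prop (I := QC X)
  isClosed_cons_range (isSpectralMap_toPiProp X)

end Embedding

end Groth.Agent.Lib.Spectral.Product
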