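import Mathlib.Topology.Spectral.Basic
import Mathlib.Topology.Connected.Clopen
import Mathlib.Topology.Constructible

/-!
# Connected components of quasi-compact quasi-separated prespectral spaces (Stacks 005F)
-/

namespace Groth.Agent.Lib.Spectral.Connected

open Set TopologicalSpace Topology

variable {X : Type*} [TopologicalSpace X] [CompactSpace X] [PrespectralSpace X]
  [QuasiSeparatedSpace X]

/-- The connected component of a point is the intersection of the clopens containing it. -/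
theorem connectedComponent_eq_sInter (x : X) :
    connectedComponent x = ⋂₀ {Z : Set X | IsClopen Z ∧ x ∈ Z} := by
  refine subset_antisymm (subset_sInter fun Z hZ ↦ hZ.1.connectedComponent_subset hZ.2) ?_
  set S := ⋂₀ {Z : Set X | IsClopen Z ∧ x ∈ Z} with hS
  have hxS : x ∈ S := mem_sInter.mpr fun Z hZ ↦ hZ.2
  have hSc : IsClosed S := isClosed_sInter fun Z hZ ↦ hZ.1.1
  refine IsPreconnected.subset_connectedComponent ?_ hxS
  rw [isPreconnected_iff_subset_of_fully_disjoint_closed hSc]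
  intro A B hA hB hSAB hAB
  obtain ⟨U, hUc, hUo, hAU, hUB⟩ := PrespectralSpace.exists_isCompact_and_isOpen_between
    (hSc.inter hA).isCompact hB.isOpen_compl (fun y hy ↦ disjoint_left.mp hAB hy.2)
  obtain ⟨V, hVc, hVo, hBV, hVA⟩ := PrespectralSpace.exists_isCompact_and_isOpen_between
    (hSc.inter hB).isCompact hA.isOpen_compl (fun y hy ↦ disjoint_right.mp hAB hy.2)
  -- a clopen containing `x` inside `U ∪ V` and missing `U ∩ V`
  let ι := {Z : Set X // IsClopen Z ∧ x ∈ Z}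
  have hne : Nonempty ι := ⟨⟨univ, isClopen_univ, mem_univ x⟩⟩
  have hdir : Directed (fun a b : Set X ↦ a ⊇ b) (fun Z : ι ↦ Z.1) := fun Z Z' ↦
    ⟨⟨Z.1 ∩ Z'.1, Z.2.1.inter Z'.2.1, Z.2.2, Z'.2.2⟩, inter_subset_left, inter_subset_right⟩
  have hbad : IsCompact ((U ∩ V) ∪ (U ∪ V)ᶜ) :=
    (hUc.inter_of_isOpen hVc hUo hVo).union (hUo.union hVo).isClosed_compl.isCompact
  obtain ⟨Z, hZ⟩ := hbad.elim_directed_family_closed (fun Z : ι ↦ Z.1) (fun Z ↦ Z.2.1.1) (by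
      refine eq_empty_of_forall_notMem fun y hy ↦ ?_
      have hyS : y ∈ S := mem_sInter.mpr fun Z hZ ↦ mem_iInter.mp hy.2 ⟨Z, hZ⟩
      rcases hy.1 with ⟨hyU, hyV⟩ | hyUV
      · rcases hSAB hyS with h | h
        · exact hVA hyV h
        · exact hUB hyU h
      · rcases hSAB hyS with h | h
        · exact hyUV (.inl (hAU ⟨hyS, h⟩))
        · exact hyUV (.inr (hBV ⟨hyS, h⟩))) hdir
  have hsplit : ∀ y ∈ Z.1, (y ∈ U ∨ y ∈ V) ∧ ¬(y ∈ U ∧ y ∈ V) := fun y hy ↦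
    ⟨by_contra fun h ↦ (Set.ext_iff.mp hZ y).mp ⟨.inr h, hy⟩,
      fun h ↦ (Set.ext_iff.mp hZ y).mp ⟨.inl h, hy⟩⟩
  have hclop : ∀ U V : Set X, IsOpen U → IsOpen V →
      (∀ y ∈ Z.1, (y ∈ U ∨ y ∈ V) ∧ ¬(y ∈ U ∧ y ∈ V)) → IsClopen (Z.1 ∩ U) := by
    intro U V hUo hVo h
    refine ⟨?_, Z.2.1.2.inter hUo⟩
    have : Z.1 ∩ U = Z.1 ∩ Vᶜ := by
      ext y
      exact ⟨fun hy ↦ ⟨hy.1, fun hyV ↦ (h y hy.1).2 ⟨hy.2, hyV⟩⟩,
        fun hy ↦ ⟨hy.1, (h y hy.1).1.resolve_right hy.2⟩⟩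
    exact this ▸ Z.2.1.1.inter hVo.isClosed_compl
  rcases (hsplit x Z.2.2).1 with hxU | hxV
  · left
    intro y hy
    have hyU : y ∈ U :=
      (mem_sInter.mp hy (Z.1 ∩ U) ⟨hclop U V hUo hVo hsplit, Z.2.2, hxU⟩).2
    exact (hSAB hy).resolve_right (hUB hyU)
  · right
    intro y hy
    have hyV : y ∈ V := (mem_sInter.mp hy (Z.1 ∩ V) ⟨hclop V U hVo hUo (fun y hy ↦
      ⟨(hsplit y hy).1.symm, fun h ↦ (hsplit y hy).2 h.symm⟩), Z.2.2, hxV⟩).2
    exact (hSAB hy).resolve_left (hVA hyV)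

end Groth.Agent.Lib.Spectral.Connected
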