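import Groth.Agent.Lib.Spectral.Basic
import Mathlib.Topology.Category.TopCat.Limits.Cofiltered
import Mathlib.CategoryTheory.Limits.Types.Limits
import Mathlib.CategoryTheory.Limits.Preserves.Basic

/-!
# Limits of spectral spaces along spectral maps (Stacks 0A2Z, 0A30, 0A2U)
-/

namespace Groth.Agent.Lib.Spectral.Limit

open Set TopologicalSpace Topology CategoryTheory CategoryTheory.Limits
open Groth.Agent.Lib.Spectral.Basic

universe u

variable {J : Type u} [SmallCategory J] {F : J ⥤ TopCat.{u}} {c : Cone F}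

/-! ### Points and topology of a limit cone -/

lemma map_app (c : Cone F) {i j : J} (a : i ⟶ j) (p : c.pt) :
    F.map a (c.π.app i p) = c.π.app j p := by
  rw [← ConcreteCategory.comp_apply, c.w a]

lemma point_ext (hc : IsLimit c) {p q : c.pt} (h : ∀ j, c.π.app j p = c.π.app j q) : p = q :=
  (Types.isLimitEquivSections (isLimitOfPreserves (forget TopCat.{u}) hc)).injective
    (Subtype.ext (funext h))

lemma exists_point (hc : IsLimit c) (x : ∀ j, F.obj j)
    (hx : ∀ {i j : J} (a : i ⟶ j), F.map a (x i) = x j) :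
    ∃ p : c.pt, ∀ j, c.π.app j p = x j := by
  refine ⟨(Types.isLimitEquivSections (isLimitOfPreserves (forget TopCat.{u}) hc)).symm ⟨x, hx⟩, fun j ↦ ?_⟩
  exact Types.isLimitEquivSections_symm_apply (isLimitOfPreserves (forget TopCat.{u}) hc) ⟨x, hx⟩ j

lemma isInducing_proj (hc : IsLimit c) :
    IsInducing (fun (p : c.pt) (j : J) ↦ (c.π.app j p : F.obj j)) := by
  refine ⟨(TopCat.induced_of_isLimit c hc).trans ?_⟩
  simp only [Pi.topologicalSpace, induced_iInf, induced_compose]
  rfl

/-! ### Compactness and existence of points -/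

section Compact

variable (hc : IsLimit c) (hF : ∀ j, SpectralSpace (F.obj j))
  (hFm : ∀ {i j : J} (a : i ⟶ j), IsSpectralMap (F.map a : F.obj i → F.obj j))

variable (F) in
/-- The product of the constructible topologies. -/
@[instance_reducible]
def piCons : TopologicalSpace (∀ j, F.obj j) :=
  @Pi.topologicalSpace J (fun j ↦ F.obj j) fun j ↦ constructibleTopology (F.obj j)

include hF in
lemma compactSpace_piCons : @CompactSpace _ (piCons F) :=
  @Pi.compactSpace J (fun j ↦ F.obj j) (fun j ↦ constructibleTopology (F.obj j))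
    fun j ↦ have := hF j; compactSpace_cons

lemma isClosed_piCons_eval {j : J} {E : Set (F.obj j)}
    (hE : IsClosed[constructibleTopology (F.obj j)] E) :
    IsClosed[piCons F] ((fun x : ∀ j, F.obj j ↦ x j) ⁻¹' E) :=
  @IsClosed.preimage _ _ (piCons F) (constructibleTopology (F.obj j)) _
    (@continuous_apply J (fun j ↦ F.obj j) (fun j ↦ constructibleTopology (F.obj j)) j) E hE

include hF hFm in
lemma isClosed_piCons_compat {i j : J} (a : i ⟶ j) :
    IsClosed[piCons F] {x : ∀ j, F.obj j | F.map a (x i) = x j} := by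
  have := hF j
  exact @isClosed_eq (F.obj j) (∀ j, F.obj j) (constructibleTopology (F.obj j))
    (piCons F) t2Space_cons _ _
    (@Continuous.comp _ _ _ (piCons F) (constructibleTopology (F.obj i))
      (constructibleTopology (F.obj j)) _ (F.map a) (continuous_cons (hFm a))
      (@continuous_apply J (fun j ↦ F.obj j) (fun j ↦ constructibleTopology (F.obj j)) i))
    (@continuous_apply J (fun j ↦ F.obj j) (fun j ↦ constructibleTopology (F.obj j)) j)

include hc hF hFm in
/-- An intersection of preimages of constructibly closed sets is quasi-compact in the limit. -/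
theorem isCompact_setOf (Z : ∀ j, Set (F.obj j))
    (hZ : ∀ j, IsClosed[constructibleTopology (F.obj j)] (Z j)) :
    IsCompact {p : c.pt | ∀ j, c.π.app j p ∈ Z j} := by
  let K : Set (∀ j, F.obj j) :=
    (⋂ j, (fun x : ∀ j, F.obj j ↦ x j) ⁻¹' Z j) ∩
      ⋂ a : Σ i j : J, i ⟶ j, {x | F.map a.2.2 (x a.1) = x a.2.1}
  have hK : IsClosed[piCons F] K :=
    @IsClosed.inter _ _ _ (piCons F) (@isClosed_iInter _ _ (piCons F) _ fun j ↦
      isClosed_piCons_eval (hZ j))
      (@isClosed_iInter _ _ (piCons F) _ fun a ↦ isClosed_piCons_compat hF hFm a.2.2)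
  have hKc : IsCompact K := by
    have h := @IsCompact.image _ _ (piCons F) Pi.topologicalSpace K id
      (@IsClosed.isCompact _ (piCons F) K (compactSpace_piCons hF) hK)
      (continuous_iInf_rng.mpr fun j ↦ continuous_induced_rng.mpr <| by
        have := hF j
        exact @Continuous.comp _ _ _ (piCons F) (constructibleTopology (F.obj j)) _ _ id
          (continuous_id_of_le cons_le)
          (@continuous_apply J (fun j ↦ F.obj j) (fun j ↦ constructibleTopology (F.obj j)) j))
    rwa [image_id] at h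
  rw [(isInducing_proj hc).isCompact_iff]
  convert! hKc
  ext x
  refine ⟨?_, fun hx ↦ ?_⟩
  · rintro ⟨p, hp, rfl⟩
    exact ⟨mem_iInter.mpr hp, mem_iInter.mpr fun a ↦ map_app c a.2.2 p⟩
  · obtain ⟨p, hp⟩ := exists_point hc x fun a ↦ mem_iInter.mp hx.2 ⟨_, _, a⟩
    exact ⟨p, fun j ↦ (hp j).symm ▸ mem_iInter.mp hx.1 j, funext hp⟩

include hc hF hFm in
theorem compactSpace_pt : CompactSpace c.pt := by
  refine ⟨?_⟩
  convert! isCompact_setOf hc hF hFm (fun _ ↦ univ)
    fun j ↦ @isClosed_univ _ (constructibleTopology (F.obj j))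
  simp

include hc hF hFm in
theorem isCompact_preimage (i : J) {E : Set (F.obj i)}
    (hE : IsClosed[constructibleTopology (F.obj i)] E) : IsCompact (c.π.app i ⁻¹' E) := by
  classical
  convert! isCompact_setOf hc hF hFm (Function.update (fun j ↦ (univ : Set (F.obj j))) i E) ?_
  · ext p
    simp [Function.forall_update_iff (fun j ↦ (univ : Set (F.obj j))) fun j s ↦ c.π.app j p ∈ s]
  · intro j
    rcases eq_or_ne j i with rfl | h
    · simpa using hE
    · simpa [Function.update_of_ne h] using @isClosed_univ _ (constructibleTopology (F.obj j))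

include hc hF hFm in
theorem isSpectralMap_proj (i : J) : IsSpectralMap (c.π.app i : c.pt → F.obj i) :=
  ⟨(c.π.app i).hom.continuous,
    fun _ hUo hUc ↦ isCompact_preimage hc hF hFm i (isClosed_cons hUo hUc)⟩

include hc hF hFm in
/-- Existence of points of the limit by the finite intersection property. -/
theorem exists_point_mem (Z : ∀ j, Set (F.obj j))
    (hZ : ∀ j, IsClosed[constructibleTopology (F.obj j)] (Z j))
    (H : ∀ (G : Finset J) (A : Finset (Σ i j : J, i ⟶ j)), ∃ x : ∀ j, F.obj j,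
      (∀ j ∈ G, x j ∈ Z j) ∧ ∀ a ∈ A, F.map a.2.2 (x a.1) = x a.2.1) :
    ∃ p : c.pt, ∀ j, c.π.app j p ∈ Z j := by
  classical
  let C : J ⊕ (Σ i j : J, i ⟶ j) → Set (∀ j, F.obj j) :=
    Sum.elim (fun j ↦ (fun x : ∀ j, F.obj j ↦ x j) ⁻¹' Z j)
      fun a ↦ {x | F.map a.2.2 (x a.1) = x a.2.1}
  have hC : ∀ o, IsClosed[piCons F] (C o) := by
    rintro (j | a)
    · exact isClosed_piCons_eval (hZ j)
    · exact isClosed_piCons_compat hF hFm a.2.2
  obtain ⟨x, -, hx⟩ := @IsCompact.inter_iInter_nonempty _ (piCons F) univ _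
    (@isCompact_univ _ (piCons F) (compactSpace_piCons hF)) C hC fun s ↦ by
      obtain ⟨x, hx, hx'⟩ := H s.toLeft s.toRight
      refine ⟨x, trivial, mem_iInter₂.mpr fun o ho ↦ ?_⟩
      rcases o with j | a
      · exact hx j (Finset.mem_toLeft.mpr ho)
      · exact hx' a (Finset.mem_toRight.mpr ho)
  rw [mem_iInter] at hx
  obtain ⟨p, hp⟩ := exists_point hc x fun a ↦ hx (.inr ⟨_, _, a⟩)
  exact ⟨p, fun j ↦ (hp j).symm ▸ hx (.inl j)⟩

end Compact

/-! ### Cofiltered limits -/

section Cofiltered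

variable [IsCofiltered J]

/-- Above a finite part of the diagram, every point extends to a compatible family. -/
lemma exists_extension (hne : ∀ j, Nonempty (F.obj j)) (i : J) (G : Finset J)
    (A : Finset (Σ i j : J, i ⟶ j)) :
    ∃ (k : J) (a : k ⟶ i), ∀ y : F.obj k, ∃ x : ∀ j, F.obj j, x i = F.map a y ∧
      (∀ j ∈ G, ∃ t : k ⟶ j, x j = F.map t y) ∧ ∀ f ∈ A, F.map f.2.2 (x f.1) = x f.2.1 := by
  classical
  let O : Finset J := insert i (G ∪ A.image (fun a ↦ a.1) ∪ A.image (fun a ↦ a.2.1))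
  have h1 : ∀ a ∈ A, a.1 ∈ O := fun a ha ↦ by
    simp only [O, Finset.mem_insert, Finset.mem_union, Finset.mem_image]
    exact .inr (.inl (.inr ⟨a, ha, rfl⟩))
  have h2 : ∀ a ∈ A, a.2.1 ∈ O := fun a ha ↦ by
    simp only [O, Finset.mem_insert, Finset.mem_union, Finset.mem_image]
    exact .inr (.inr ⟨a, ha, rfl⟩)
  let H : Finset (Σ' (X Y : J) (_ : X ∈ O) (_ : Y ∈ O), X ⟶ Y) :=
    A.attach.image fun a ↦ ⟨a.1.1, a.1.2.1, h1 _ a.2, h2 _ a.2, a.1.2.2⟩
  obtain ⟨k, T, hT⟩ := IsCofiltered.inf_exists O H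
  refine ⟨k, T (Finset.mem_insert_self i _), fun y ↦
    ⟨fun j ↦ if h : j ∈ O then F.map (T h) y else (hne j).some, ?_, fun j hj ↦ ?_, fun f hf ↦ ?_⟩⟩
  · simp [O]
  · have hjO : j ∈ O := by simp [O, hj]
    exact ⟨T hjO, dif_pos hjO⟩
  · simp only [dif_pos (h1 f hf), dif_pos (h2 f hf)]
    have heq := hT (h1 f hf) (h2 f hf) (f := f.2.2) (Finset.mem_image.mpr ⟨⟨f, hf⟩, by simp, rfl⟩)
    rw [← heq, Functor.map_comp, ConcreteCategory.comp_apply]

variable (hc : IsLimit c) (hF : ∀ j, SpectralSpace (F.obj j))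
  (hFm : ∀ {i j : J} (a : i ⟶ j), IsSpectralMap (F.map a : F.obj i → F.obj j))

include hc hF hFm in
theorem exists_point_of_nonempty (Z : ∀ j, Set (F.obj j)) (hne : ∀ j, (Z j).Nonempty)
    (hZ : ∀ j, IsClosed[constructibleTopology (F.obj j)] (Z j))
    (hmap : ∀ {i j : J} (a : i ⟶ j), MapsTo (F.map a) (Z i) (Z j)) :
    ∃ p : c.pt, ∀ j, c.π.app j p ∈ Z j := by
  refine exists_point_mem hc hF hFm Z hZ fun G A ↦ ?_
  obtain ⟨i⟩ := IsCofiltered.nonempty (C := J)
  obtain ⟨k, a, hk⟩ := exists_extension (F := F) (fun j ↦ ⟨(hne j).some⟩) i G A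
  obtain ⟨x, -, hG, hA⟩ := hk (hne k).some
  refine ⟨x, fun j hj ↦ ?_, hA⟩
  obtain ⟨t, ht⟩ := hG j hj
  exact ht ▸ hmap t (hne k).some_mem

include hc hF hFm in
/-- A constructibly closed set with nonempty preimage at every level meets the image of the
limit. -/
theorem exists_point_of_forall_preimage_nonempty {i : J} {D : Set (F.obj i)}
    (hD : IsClosed[constructibleTopology (F.obj i)] D)
    (h : ∀ (k : J) (a : k ⟶ i), (F.map a ⁻¹' D).Nonempty) :
    ∃ p : c.pt, c.π.app i p ∈ D := by
  classical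
  have hne : ∀ j, Nonempty (F.obj j) := fun j ↦
    ⟨F.map (IsCofiltered.minToRight i j) (h _ (IsCofiltered.minToLeft i j)).some⟩
  have hZ : ∀ j, IsClosed[constructibleTopology (F.obj j)]
      (Function.update (fun j ↦ (univ : Set (F.obj j))) i D j) := fun j ↦ by
    rcases eq_or_ne j i with rfl | h
    · simpa using hD
    · simpa [Function.update_of_ne h] using @isClosed_univ _ (constructibleTopology (F.obj j))
  obtain ⟨p, hp⟩ := exists_point_mem hc hF hFm _ hZ fun G A ↦ by
    obtain ⟨k, a, hk⟩ := exists_extension hne i G A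
    obtain ⟨x, hxi, -, hA⟩ := hk (h k a).some
    refine ⟨x, fun j _ ↦ ?_, hA⟩
    rcases eq_or_ne j i with rfl | hji
    · rw [Function.update_self, hxi]
      exact (h k a).some_mem
    · simp [Function.update_of_ne hji]
  exact ⟨p, by simpa using hp i⟩

include hc hF hFm in
theorem exists_hom_preimage_subset {i : J} {E E' : Set (F.obj i)}
    (hE : IsClosed[constructibleTopology (F.obj i)] E)
    (hE' : IsOpen[constructibleTopology (F.obj i)] E')
    (h : c.π.app i ⁻¹' E ⊆ c.π.app i ⁻¹' E') :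
    ∃ (j : J) (a : j ⟶ i), F.map a ⁻¹' E ⊆ F.map a ⁻¹' E' := by
  by_contra hne
  simp only [not_exists, not_subset] at hne
  obtain ⟨p, hp⟩ := exists_point_of_forall_preimage_nonempty hc hF hFm
    (D := E ∩ E'ᶜ) (@IsClosed.inter _ _ _ (constructibleTopology (F.obj i)) hE
      (@IsOpen.isClosed_compl _ (constructibleTopology (F.obj i)) _ hE')) (fun k a ↦ hne k a)
  exact hp.2 (h hp.1)

omit [IsCofiltered J] in
/-- Preimages along the projections factor through transition maps. -/
lemma preimage_map_preimage (c : Cone F) {i j : J} (a : i ⟶ j) (E : Set (F.obj j)) :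
    c.π.app i ⁻¹' (F.map a ⁻¹' E) = c.π.app j ⁻¹' E := by
  ext p
  simp only [mem_preimage, map_app c a p]

include hc hF hFm in
theorem isTopologicalBasis_preimage :
    IsTopologicalBasis {U : Set c.pt | ∃ (j : J) (V : Set (F.obj j)),
      V ∈ {V : Set (F.obj j) | IsOpen V ∧ IsCompact V} ∧ U = c.π.app j ⁻¹' V} :=
  TopCat.isTopologicalBasis_cofiltered_limit.{u} F c hc
    (fun j ↦ {V : Set (F.obj j) | IsOpen V ∧ IsCompact V})
    (fun j ↦ have := hF j; PrespectralSpace.isTopologicalBasis)
    (fun j ↦ have := hF j; ⟨isOpen_univ, isCompact_univ⟩)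
    (fun j _ _ h1 h2 ↦ have := hF j; ⟨h1.1.inter h2.1, h1.2.inter_of_isOpen h2.2 h1.1 h2.1⟩)
    (fun _ _ f _ hV ↦ ⟨hV.1.preimage (hFm f).continuous, hV.2.preimage_of_isOpen (hFm f) hV.1⟩)

include hc hF hFm in
/-- Every quasi-compact open of the limit comes from a quasi-compact open at some level. -/
theorem exists_compactOpen_preimage_eq {U : Set c.pt} (hUo : IsOpen U) (hUc : IsCompact U) :
    ∃ (i : J) (V : Set (F.obj i)), IsOpen V ∧ IsCompact V ∧ c.π.app i ⁻¹' V = U := by
  obtain ⟨i, V, hVo, hVc, h1, h2⟩ := hUc.induction_on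
    (p := fun s ↦ ∃ (i : J) (V : Set (F.obj i)), IsOpen V ∧ IsCompact V ∧
      s ⊆ c.π.app i ⁻¹' V ∧ c.π.app i ⁻¹' V ⊆ U)
    ⟨IsCofiltered.nonempty.some, ∅, by simp⟩
    (fun s t hst ⟨i, V, h1, h2, h3, h4⟩ ↦ ⟨i, V, h1, h2, hst.trans h3, h4⟩)
    (fun s t ⟨i, V, h1, h2, h3, h4⟩ ⟨j, W, h1', h2', h3', h4'⟩ ↦ by
      refine ⟨IsCofiltered.min i j,
        F.map (IsCofiltered.minToLeft i j) ⁻¹' V ∪ F.map (IsCofiltered.minToRight i j) ⁻¹' W,
        (h1.preimage (hFm _).continuous).union (h1'.preimage (hFm _).continuous),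
        (h2.preimage_of_isOpen (hFm _) h1).union (h2'.preimage_of_isOpen (hFm _) h1'), ?_, ?_⟩
      · rw [preimage_union, preimage_map_preimage, preimage_map_preimage]
        exact union_subset_union h3 h3'
      · rw [preimage_union, preimage_map_preimage, preimage_map_preimage]
        exact union_subset h4 h4')
    (fun x hx ↦ by
      obtain ⟨W, ⟨i, V, ⟨hVo, hVc⟩, rfl⟩, hxW, hWU⟩ :=
        (isTopologicalBasis_preimage hc hF hFm).exists_subset_of_mem_open hx hUo
      exact ⟨c.π.app i ⁻¹' V, mem_nhdsWithin_of_mem_nhds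
        ((hVo.preimage (c.π.app i).hom.continuous).mem_nhds hxW), i, V, hVo, hVc, subset_rfl, hWU⟩)
  exact ⟨i, V, hVo, hVc, subset_antisymm h2 h1⟩

include hc hF hFm in
theorem exists_isConstructible_preimage_eq {E : Set c.pt} (hE : IsConstructible E) :
    ∃ (i : J) (Ei : Set (F.obj i)), IsConstructible Ei ∧ c.π.app i ⁻¹' Ei = E := by
  have := compactSpace_pt hc hF hFm
  induction hE using IsConstructible.empty_union_induction with
  | open_retrocompact U hUo hUr =>
    obtain ⟨i, V, hVo, hVc, h⟩ := exists_compactOpen_preimage_eq hc hF hFm hUo hUr.isCompact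
    exact ⟨i, V, have := hF i; hVc.isConstructible hVo, h⟩
  | union s hs t ht hs' ht' =>
    obtain ⟨i, V, hV, rfl⟩ := hs'
    obtain ⟨j, W, hW, rfl⟩ := ht'
    refine ⟨IsCofiltered.min i j,
      F.map (IsCofiltered.minToLeft i j) ⁻¹' V ∪ F.map (IsCofiltered.minToRight i j) ⁻¹' W, ?_, ?_⟩
    · have := hF (IsCofiltered.min i j)
      have := hF i
      have := hF j
      rw [isConstructible_iff_isClopen_cons]
      exact @IsClopen.union _ (constructibleTopology _) _ _
        (@IsClopen.preimage _ _ (constructibleTopology _) (constructibleTopology _) _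
          (isClopen_cons_of_isConstructible hV) _ (continuous_cons (hFm _)))
        (@IsClopen.preimage _ _ (constructibleTopology _) (constructibleTopology _) _
          (isClopen_cons_of_isConstructible hW) _ (continuous_cons (hFm _)))
    · rw [preimage_union, preimage_map_preimage, preimage_map_preimage]
  | compl s hs hs' =>
    obtain ⟨i, V, hV, rfl⟩ := hs'
    exact ⟨i, Vᶜ, hV.compl, rfl⟩

include hc hF hFm in
/-- A cofiltered limit of spectral spaces along spectral maps is spectral. -/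
theorem spectralSpace_pt : SpectralSpace c.pt := by
  have hcomp := compactSpace_pt hc hF hFm
  have hpre : PrespectralSpace c.pt :=
    PrespectralSpace.of_isTopologicalBasis (isTopologicalBasis_preimage hc hF hFm) fun U hU ↦ by
      obtain ⟨j, V, ⟨hVo, hVc⟩, rfl⟩ := hU
      exact hVc.preimage_of_isOpen (isSpectralMap_proj hc hF hFm j) hVo
  have hqs : QuasiSeparatedSpace c.pt := ⟨fun U V hUo hUc hVo hVc ↦ by
    obtain ⟨i, U', hUo', hUc', rfl⟩ := exists_compactOpen_preimage_eq hc hF hFm hUo hUc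
    obtain ⟨j, V', hVo', hVc', rfl⟩ := exists_compactOpen_preimage_eq hc hF hFm hVo hVc
    rw [← preimage_map_preimage c (IsCofiltered.minToLeft i j) U',
      ← preimage_map_preimage c (IsCofiltered.minToRight i j) V', ← preimage_inter]
    have := hF (IsCofiltered.min i j)
    exact ((hUc'.preimage_of_isOpen (hFm _) hUo').inter_of_isOpen
      (hVc'.preimage_of_isOpen (hFm _) hVo') (hUo'.preimage (hFm _).continuous)
      (hVo'.preimage (hFm _).continuous)).preimage_of_isOpen (isSpectralMap_proj hc hF hFm _)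
      ((hUo'.preimage (hFm _).continuous).inter (hVo'.preimage (hFm _).continuous))⟩
  have ht0 : T0Space c.pt := ⟨fun p q hpq ↦ point_ext hc fun j ↦ by
    have := hF j
    exact (hpq.map (c.π.app j).hom.continuous).eq⟩
  have hsob : QuasiSober c.pt := ⟨fun {Z} hZi hZc ↦ by
    have hi : ∀ j, IsIrreducible (c.π.app j '' Z) := fun j ↦
      hZi.image _ (c.π.app j).hom.continuous.continuousOn
    choose ξ hξ using fun j ↦
      (have := hF j; QuasiSober.sober (hi j).closure isClosed_closure : ∃ x : F.obj j,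
        IsGenericPoint x (closure (c.π.app j '' Z)))
    have hcompat : ∀ {i j : J} (a : i ⟶ j), F.map a (ξ i) = ξ j := fun {i j} a ↦ by
      have := hF j
      have h := (hξ i).image (hFm a).continuous
      have heq : F.map a '' (c.π.app i '' Z) = c.π.app j '' Z := by
        rw [← image_comp]
        exact image_congr' fun p ↦ map_app c a p
      rw [closure_image_closure (hFm a).continuous, heq] at h
      exact h.eq (hξ j)
    obtain ⟨p, hp⟩ := exists_point hc ξ hcompat
    refine ⟨p, isGenericPoint_iff_forall_closed hZc ?_ |>.mpr fun C hC hpC q hq ↦ ?_⟩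
    · by_contra hpZ
      obtain ⟨W, ⟨j, V, ⟨hVo, -⟩, rfl⟩, hpW, hWZ⟩ :=
        (isTopologicalBasis_preimage hc hF hFm).exists_subset_of_mem_open
          (show p ∈ Zᶜ from hpZ) hZc.isOpen_compl
      obtain ⟨z, hz, q, hq, rfl⟩ := mem_closure_iff.mp (hp j ▸ (hξ j).mem) V hVo hpW
      exact hWZ hz hq
    · by_contra hqC
      obtain ⟨W, ⟨j, V, ⟨hVo, -⟩, rfl⟩, hqW, hWC⟩ :=
        (isTopologicalBasis_preimage hc hF hFm).exists_subset_of_mem_open
          (show q ∈ Cᶜ from hqC) hC.isOpen_compl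
      have hpV : c.π.app j p ∈ V := hp j ▸
        ((hξ j).specializes (subset_closure (mem_image_of_mem _ hq))).mem_open hVo hqW
      exact hWC hpV hpC⟩
  exact {}

end Cofiltered

end Groth.Agent.Lib.Spectral.Limit
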