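import Groth.Prelude.Def_W4stktopologysheavesDim
import Mathlib.Topology.Spectral.Basic
import Mathlib.Topology.NoetherianSpace
import Mathlib.Topology.Constructible

/-!
# Soberification
-/

namespace Groth.Agent.Lib.Spectral.Sober

open Set TopologicalSpace Topology

variable {X : Type*} [TopologicalSpace X]

/-- The underlying set of a point of the soberification. -/
abbrev carr (Z : PtTop.Sob X) : Set X := IrreducibleCloseds.carrier Z

/-- The open of the soberification attached to an open of `X`. -/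
def op (U : Set X) : Set (PtTop.Sob X) :=
  {Z : IrreducibleCloseds X | ((Z : Set X) ∩ U).Nonempty}

lemma isOpen_op {U : Set X} (hU : IsOpen U) : IsOpen (op U) :=
  TopologicalSpace.isOpen_generateFrom_of_mem ⟨⟨U, hU⟩, rfl⟩

lemma preimage_op {U : Set X} (hU : IsOpen U) : PtTop.toSob X ⁻¹' op U = U := by
  ext x
  constructor
  · rintro ⟨y, hy, hyU⟩
    exact (specializes_iff_mem_closure.mpr hy).mem_open hU hyU
  · exact fun h ↦ ⟨x, subset_closure rfl, h⟩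

lemma exists_eq_op {S : Set (PtTop.Sob X)} (hS : IsOpen S) : ∃ U : Set X, IsOpen U ∧ S = op U := by
  induction hS with
  | basic s hs =>
    obtain ⟨U, rfl⟩ := hs
    exact ⟨U, U.2, rfl⟩
  | univ =>
    exact ⟨univ, isOpen_univ, (eq_univ_of_forall fun Z ↦ by
      obtain ⟨x, hx⟩ := Z.isIrreducible.nonempty
      exact ⟨x, hx, trivial⟩).symm⟩
  | inter s t _ _ hs ht =>
    obtain ⟨U, hU, rfl⟩ := hs
    obtain ⟨V, hV, rfl⟩ := ht
    refine ⟨U ∩ V, hU.inter hV, ?_⟩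
    ext Z
    exact ⟨fun h ↦ Z.isIrreducible.2 U V hU hV h.1 h.2,
      fun ⟨x, hx, hxU, hxV⟩ ↦ ⟨⟨x, hx, hxU⟩, ⟨x, hx, hxV⟩⟩⟩
  | sUnion S _ ih =>
    choose U hU hUeq using ih
    refine ⟨⋃ s, ⋃ hs : s ∈ S, U s hs, isOpen_iUnion fun s ↦ isOpen_iUnion (hU s), ?_⟩
    ext Z
    constructor
    · rintro ⟨s, hs, hZ⟩
      rw [hUeq s hs] at hZ
      obtain ⟨x, hx, hxU⟩ := hZ
      exact ⟨x, hx, mem_iUnion₂.mpr ⟨s, hs, hxU⟩⟩
    · rintro ⟨x, hx, hxU⟩
      obtain ⟨s, hs, hxs⟩ := mem_iUnion₂.mp hxU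
      exact ⟨s, hs, (Set.ext_iff.mp (hUeq s hs) Z).mpr ⟨x, hx, hxs⟩⟩

lemma continuous_toSob : Continuous (PtTop.toSob X) := by
  refine ⟨fun S hS ↦ ?_⟩
  obtain ⟨U, hU, rfl⟩ := exists_eq_op hS
  rwa [preimage_op hU]

lemma op_subset_op {U V : Set X} (hU : IsOpen U) (hV : IsOpen V) : op U ⊆ op V ↔ U ⊆ V :=
  ⟨fun h ↦ by rw [← preimage_op hU, ← preimage_op hV]; exact preimage_mono h,
    fun h _ ⟨x, hx, hxU⟩ ↦ ⟨x, hx, h hxU⟩⟩

lemma op_iUnion {ι : Sort*} (U : ι → Set X) : op (⋃ i, U i) = ⋃ i, op (U i) := by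
  ext Z
  simp only [op, mem_iUnion]
  constructor
  · rintro ⟨x, hx, hxU⟩
    obtain ⟨i, hi⟩ := mem_iUnion.mp hxU
    exact ⟨i, x, hx, hi⟩
  · rintro ⟨i, x, hx, hi⟩
    exact ⟨x, hx, mem_iUnion.mpr ⟨i, hi⟩⟩

lemma isCompact_op {U : Set X} (hU : IsOpen U) (hUc : IsCompact U) : IsCompact (op U) := by
  refine isCompact_of_finite_subcover fun O hO hcov ↦ ?_
  choose V hV hVeq using fun i ↦ exists_eq_op (hO i)
  simp only [hVeq, ← op_iUnion] at hcov
  obtain ⟨t, ht⟩ := hUc.elim_finite_subcover V hV ((op_subset_op hU (isOpen_iUnion hV)).mp hcov)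
  refine ⟨t, ?_⟩
  simp only [hVeq]
  intro Z ⟨x, hx, hxU⟩
  obtain ⟨i, hi, hxi⟩ := mem_iUnion₂.mp (ht hxU)
  exact mem_iUnion₂.mpr ⟨i, hi, x, hx, hxi⟩

lemma le_of_specializes {Z W : PtTop.Sob X} (h : Z ⤳ W) :
    carr W ⊆ carr Z := by
  intro x hx
  by_contra hxZ
  obtain ⟨y, hy, hy'⟩ := h.mem_open (isOpen_op Z.isClosed.isOpen_compl) ⟨x, hx, hxZ⟩
  exact hy' hy

theorem t0Space : T0Space (PtTop.Sob X) :=
  ⟨fun _ _ h ↦ IrreducibleCloseds.ext
    (subset_antisymm (le_of_specializes h.specializes') (le_of_specializes h.specializes))⟩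

theorem quasiSober : QuasiSober (PtTop.Sob X) := by
  refine ⟨fun {A} hA hAc ↦ ?_⟩
  obtain ⟨U, hU, hUeq⟩ := exists_eq_op hAc.isOpen_compl
  have hmem : ∀ Z : PtTop.Sob X, Z ∈ A ↔ carr Z ⊆ Uᶜ := fun Z ↦ by
    constructor
    · intro h x hx hxU
      exact (Set.ext_iff.mp hUeq Z).mpr ⟨x, hx, hxU⟩ h
    · intro h
      by_contra hZ
      obtain ⟨x, hx, hxU⟩ := (Set.ext_iff.mp hUeq Z).mp hZ
      exact h hx hxU
  have hpt : ∀ x, x ∈ Uᶜ → PtTop.toSob X x ∈ A := fun x hx ↦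
    (hmem ⟨closure {x}, isIrreducible_singleton.closure, isClosed_closure⟩).mpr
      (closure_minimal (singleton_subset_iff.mpr hx) hU.isClosed_compl)
  have hirr : IsIrreducible Uᶜ := by
    refine ⟨?_, fun V W hV hW ⟨a, ha, haV⟩ ⟨b, hb, hbW⟩ ↦ ?_⟩
    · obtain ⟨Z, hZ⟩ := hA.nonempty
      obtain ⟨x, hx⟩ := Z.isIrreducible.nonempty
      exact ⟨x, (hmem Z).mp hZ hx⟩
    · obtain ⟨Z, hZ, hZV, hZW⟩ := hA.2 (op V) (op W) (isOpen_op hV) (isOpen_op hW)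
        ⟨_, hpt a ha, a, subset_closure rfl, haV⟩ ⟨_, hpt b hb, b, subset_closure rfl, hbW⟩
      obtain ⟨x, hx, hxVW⟩ := Z.isIrreducible.2 V W hV hW hZV hZW
      exact ⟨x, (hmem Z).mp hZ hx, hxVW⟩
  let C : PtTop.Sob X := (⟨Uᶜ, hirr, hU.isClosed_compl⟩ : IrreducibleCloseds X)
  refine ⟨C, subset_antisymm (closure_minimal (singleton_subset_iff.mpr
    ((hmem ⟨Uᶜ, hirr, hU.isClosed_compl⟩).mpr subset_rfl)) hAc) fun Z hZ ↦ ?_⟩
  refine mem_closure_iff.mpr fun O hO hZO ↦ ?_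
  obtain ⟨V, hV, rfl⟩ := exists_eq_op hO
  obtain ⟨x, hx, hxV⟩ := hZO
  exact ⟨C, ⟨x, (hmem Z).mp hZ hx, hxV⟩, rfl⟩

lemma compactSpace [CompactSpace X] : CompactSpace (PtTop.Sob X) := by
  refine ⟨?_⟩
  have : (univ : Set (PtTop.Sob X)) = op univ := (eq_univ_of_forall fun Z ↦ by
    obtain ⟨x, hx⟩ := Z.isIrreducible.nonempty
    exact ⟨x, hx, trivial⟩).symm
  rw [this]
  exact isCompact_op isOpen_univ isCompact_univ

lemma isCompact_preimage {S : Set (PtTop.Sob X)} (hSo : IsOpen S) (hSc : IsCompact S) :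
    IsCompact (PtTop.toSob X ⁻¹' S) := by
  refine isCompact_of_finite_subcover fun O hO hcov ↦ ?_
  obtain ⟨U, hU, rfl⟩ := exists_eq_op hSo
  rw [preimage_op hU] at hcov ⊢
  obtain ⟨t, ht⟩ := hSc.elim_finite_subcover (fun i ↦ op (O i)) (fun i ↦ isOpen_op (hO i)) (by
    rw [← op_iUnion]
    exact (op_subset_op hU (isOpen_iUnion hO)).mpr hcov)
  refine ⟨t, fun x hx ↦ ?_⟩
  obtain ⟨i, hi, hxi⟩ := mem_iUnion₂.mp (ht (show PtTop.toSob X x ∈ op U from ⟨x, subset_closure rfl, hx⟩))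
  exact mem_iUnion₂.mpr ⟨i, hi, (Set.ext_iff.mp (preimage_op (hO i)) x).mp hxi⟩

theorem spectralSpace [CompactSpace X] [PrespectralSpace X] [QuasiSeparatedSpace X] :
    SpectralSpace (PtTop.Sob X) := by
  have := t0Space (X := X)
  have := quasiSober (X := X)
  have := compactSpace (X := X)
  have : PrespectralSpace (PtTop.Sob X) := by
    refine .of_isTopologicalBasis (B := {S | ∃ W : Set X, IsOpen W ∧ IsCompact W ∧ S = op W}) ?_ ?_
    · refine isTopologicalBasis_of_isOpen_of_nhds ?_ fun Z S hZ hS ↦ ?_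
      · rintro _ ⟨W, hW, -, rfl⟩
        exact isOpen_op hW
      · obtain ⟨U, hU, rfl⟩ := exists_eq_op hS
        obtain ⟨x, hx, hxU⟩ := hZ
        obtain ⟨W, ⟨hWo, hWc⟩, hxW, hWU⟩ :=
          PrespectralSpace.isTopologicalBasis.exists_subset_of_mem_open hxU hU
        exact ⟨op W, ⟨W, hWo, hWc, rfl⟩, ⟨x, hx, hxW⟩, (op_subset_op hWo hU).mpr hWU⟩
    · rintro _ ⟨W, hW, hWc, rfl⟩
      exact isCompact_op hW hWc
  have : QuasiSeparatedSpace (PtTop.Sob X) := ⟨fun S T hSo hSc hTo hTc ↦ by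
    obtain ⟨U, hU, hUeq⟩ := exists_eq_op (hSo.inter hTo)
    rw [hUeq]
    refine isCompact_op hU ?_
    rw [← preimage_op hU, ← hUeq, preimage_inter]
    exact (isCompact_preimage hSo hSc).inter_of_isOpen (isCompact_preimage hTo hTc)
      (hSo.preimage continuous_toSob) (hTo.preimage continuous_toSob)⟩
  exact {}

theorem noetherianSpace [NoetherianSpace X] : NoetherianSpace (PtTop.Sob X) := by
  rw [noetherianSpace_iff_opens]
  intro S
  obtain ⟨U, hU, hUeq⟩ := exists_eq_op S.2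
  rw [show (S : Set (PtTop.Sob X)) = op U from hUeq]
  exact isCompact_op hU (NoetherianSpace.isCompact U)

end Groth.Agent.Lib.Spectral.Sober
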